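import Mathlib
import Cfsg.Prelude.Def_Classical
import Cfsg.Agent.Lib.Unitary.Transvection
import Cfsg.Agent.Lib.ShortPresSLn.Final

/-!
# The centre of `SU_n` is cyclic, so `PSU_n` costs one more relation
-/

set_option autoImplicit false
set_option linter.unusedSectionVars false

namespace Cfsg.Agent.Lib.ShortPresSU3

open Matrix Cfsg.Agent.Lib.Unitary
open ShortPresSLn (HasPres)

variable {F : Type*} [Field F] [Fintype F] {q n : ℕ}

theorem isCyclic_center_SU (hF : Fintype.card F = q ^ 2) (hn : 2 ≤ n) :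
    IsCyclic (Subgroup.center (Cfsg.SU n F q)) := by
  obtain ⟨i⟩ : Nonempty (Fin n) := ⟨⟨0, by omega⟩⟩
  have key : ∀ z ∈ Subgroup.center (Cfsg.SU n F q), ∀ x, z.1.1 *ᵥ x = z.1.1 i i • x := by
    intro z hz x
    obtain ⟨l, hl⟩ := (mem_center_SU_iff hF hn z).1 hz
    have : z.1.1 i i = l := by
      have := congrFun (hl (Pi.single i 1)) i
      simpa [Matrix.mulVec_single_one] using this
    rw [this, hl]
  let f : Subgroup.center (Cfsg.SU n F q) →* F :=
    { toFun := fun z => z.1.1.1 i i
      map_one' := by simp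
      map_mul' := fun z z' => by
        have := congrFun (key _ z.2 (z'.1.1.1 *ᵥ Pi.single i 1)) i
        rw [mulVec_mulVec] at this
        simpa [Matrix.mulVec_single_one] using this }
  refine isCyclic_of_subgroup_isDomain f fun z z' h => ?_
  refine Subtype.ext (Subtype.ext (Subtype.ext (Matrix.ext_of_mulVec_single fun j => ?_)))
  rw [key _ z.2, key _ z'.2]
  exact congrArg (· • _) h

/-- One relation more for `PSU_n`. -/
theorem hasPres_PSU (hF : Fintype.card F = q ^ 2) (hn : 2 ≤ n) {a r : ℕ} (h : HasPres a r (Cfsg.SU n F q)) :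
    HasPres a (r + 1) (Cfsg.PSU n F q) := by
  haveI := isCyclic_center_SU hF hn
  obtain ⟨c, hc⟩ := ShortPresSLn.exists_normalClosure_center (Cfsg.SU n F q)
  exact h.quotient _ c hc

theorem HasPres.congr {a r : ℕ} {G H : Type*} [Group G] [Group H] (h : HasPres a r G) (e : G ≃* H) :
    HasPres a r H := by
  obtain ⟨rels, hr, ⟨e'⟩⟩ := h
  exact ⟨rels, hr, ⟨e'.trans e⟩⟩

end Cfsg.Agent.Lib.ShortPresSU3
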