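import Cfsg.Agent.Lib.ShortPresSU3.Main
import Cfsg.Agent.Lib.ShortPresSLn.Final
import Cfsg.Agent.Lib.ShortPresSL2.Main

/-!
# Short presentations of `SU₃`, part 6: the two ways of getting commutation
-/

set_option autoImplicit false
set_option linter.unusedSectionVars false

namespace Cfsg.Agent.Lib.ShortPresSU3

open Matrix Cfsg.Agent.Lib.Unitary Subgroup Polynomial
open ShortPresSL2 (matU matD matT polyWord map_polyWord polyWord_X)
open ShortPresSLn (HasPres)

variable {F : Type*} [Field F] [Fintype F] {q : ℕ}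

section derived

variable {k : Type*} [Field k] [Fintype k] {G : Type*} [Group G]
  (χ : Matrix.SpecialLinearGroup (Fin 2) k →* G) {u h : G}

theorem mem_longG (t : k) : χ (matU t) ∈ longG χ := ⟨.ofAdd t, rfl⟩

theorem u_norm (huz : ∀ t, Commute u (χ (matU t))) : u ∈ Subgroup.normalizer (longG χ : Set G) :=
  mem_normalizer_long χ fun t => by rw [(huz t).eq, mul_inv_cancel_right]; exact mem_longG χ t

theorem h_norm {c : k} (hc : ∀ t, h * χ (matU t) * h⁻¹ = χ (matU (c * t))) :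
    h ∈ Subgroup.normalizer (longG χ : Set G) :=
  mem_normalizer_long χ fun t => by rw [hc]; exact mem_longG χ _

/-- One step relation makes the conjugates commute modulo the long root subgroup. -/
theorem comm_of_step (hu : u ∈ Subgroup.normalizer (longG χ : Set G)) (hh : h ∈ Subgroup.normalizer (longG χ : Set G))
    {k b : ℕ} (h1 : h ^ k * u * (h ^ k)⁻¹ * u * (u * (h ^ k * u * (h ^ k)⁻¹))⁻¹ ∈ longG χ)
    (hb : h ^ b * u * (h ^ b)⁻¹ * (u * (h ^ k * u * (h ^ k)⁻¹))⁻¹ ∈ longG χ) (n : ℕ) :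
    (h ^ k) ^ n * u * ((h ^ k) ^ n)⁻¹ * u * (u * ((h ^ k) ^ n * u * ((h ^ k) ^ n)⁻¹))⁻¹ ∈ longG χ := by
  set N := Subgroup.normalizer (longG χ : Set G)
  let π := QuotientGroup.mk' ((longG χ).subgroupOf N)
  have he : ∀ x : N, π x = 1 ↔ (x : G) ∈ longG χ := fun x => by
    rw [QuotientGroup.mk'_apply, QuotientGroup.eq_one_iff]; rfl
  set ub : N := ⟨u, hu⟩
  set hb' : N := ⟨h, hh⟩
  have e1 : Commute (π ub) (π hb' ^ k * π ub * (π hb' ^ k)⁻¹) := by
    refine (mul_inv_eq_one.1 ?_).symm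
    simp only [← map_pow, ← map_inv, ← map_mul]
    rw [he]
    exact h1
  have e2 : π hb' ^ b * π ub * (π hb' ^ b)⁻¹ = π ub * (π hb' ^ k * π ub * (π hb' ^ k)⁻¹) := by
    refine mul_inv_eq_one.1 ?_
    simp only [← map_pow, ← map_inv, ← map_mul]
    rw [he]
    exact hb
  have hall := ShortPresSL2.commute_conj_pow_of_step (Commute.pow_pow_self _ b k) e1 e2 n
  have := mul_inv_eq_one.2 hall.symm.eq
  simp only [← map_pow, ← map_inv, ← map_mul] at this
  rw [he] at this
  exact this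

/-- The minimal polynomial bounds the number of commutation relations. -/
theorem comm_of_relation {p : ℕ} [Fact p.Prime] (hu : u ∈ Subgroup.normalizer (longG χ : Set G))
    (hh : h ∈ Subgroup.normalizer (longG χ : Set G)) {f : (ZMod p)[X]} (hf : f.Monic) {k : ℕ}
    (hrel : polyWord u (h ^ k) f ∈ longG χ)
    (h0 : ∀ i < f.natDegree,
      (h ^ k) ^ i * u * ((h ^ k) ^ i)⁻¹ * u * (u * ((h ^ k) ^ i * u * ((h ^ k) ^ i)⁻¹))⁻¹ ∈ longG χ) (n : ℕ) :
    (h ^ k) ^ n * u * ((h ^ k) ^ n)⁻¹ * u * (u * ((h ^ k) ^ n * u * ((h ^ k) ^ n)⁻¹))⁻¹ ∈ longG χ := by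
  set N := Subgroup.normalizer (longG χ : Set G)
  let π := QuotientGroup.mk' ((longG χ).subgroupOf N)
  have he : ∀ x : N, π x = 1 ↔ (x : G) ∈ longG χ := fun x => by
    rw [QuotientGroup.mk'_apply, QuotientGroup.eq_one_iff]; rfl
  set ub : N := ⟨u, hu⟩
  set hb' : N := ⟨h, hh⟩
  have e1 : polyWord (π ub) (π hb' ^ k) f = 1 := by
    rw [← map_pow, ← map_polyWord, he, show ((polyWord ub (hb' ^ k) f : N) : G) =
      N.subtype (polyWord ub (hb' ^ k) f) from rfl, map_polyWord]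
    exact hrel
  have hall := ShortPresSL2.commute_conj_pow_of_relation hf e1 (fun i hi => by
    refine (mul_inv_eq_one.1 ?_).symm
    simp only [← map_pow, ← map_inv, ← map_mul]
    rw [he]
    exact h0 i hi) n
  have := mul_inv_eq_one.2 hall.symm.eq
  simp only [← map_pow, ← map_inv, ← map_mul] at this
  rw [he] at this
  exact this

/-- Commutation with a spanning set gives it for all. -/
theorem comm_of_basis {p : ℕ} [Fact p.Prime] [Module (ZMod p) k] {ι : Type*} (b : ι → k)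
    (hb : Submodule.span (ZMod p) (Set.range b) = ⊤) (hu : ∀ i, Commute u (χ (matU (b i)))) (t : k) :
    Commute u (χ (matU t)) := by
  let S : AddSubgroup k :=
    { carrier := {t | Commute u (χ (matU t))}
      zero_mem' := by
        show Commute u (χ (matU 0))
        rw [ShortPresSL2.matU_zero, map_one]; exact Commute.one_right u
      add_mem' := fun {x y} (hx : Commute u (χ (matU x))) (hy : Commute u (χ (matU y))) => by
        show Commute u (χ (matU (x + y)))
        rw [ShortPresSL2.matU_add, map_mul]; exact hx.mul_right hy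
      neg_mem' := fun {x} (hx : Commute u (χ (matU x))) => by
        show Commute u (χ (matU (-x)))
        have e : χ (matU (-x)) = (χ (matU x))⁻¹ := eq_inv_of_mul_eq_one_left (by
          rw [← map_mul, ← ShortPresSL2.matU_add, neg_add_cancel, ShortPresSL2.matU_zero, map_one])
        rw [e]; exact hx.inv_right }
  have hle : Submodule.span (ZMod p) (Set.range b) ≤ AddSubgroup.toZModSubmodule p S :=
    Submodule.span_le.2 (Set.range_subset_iff.2 hu)
  exact hle (hb ▸ Submodule.mem_top (x := t))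

end derived

section main

variable (hF : Fintype.card F = q ^ 2) {δ : F} (hδ : δ ^ q = -δ) (hδ0 : δ ≠ 0)
  {p : ℕ} [hp : Fact p.Prime] [Algebra (ZMod p) F]

/-- The torus generator moves the translation part. -/
theorem aff_conj {b₀ : F} (e₀ : b₀ + b₀ ^ q + (1 : F) * (1 : F) ^ q = 0) (ω : Fˣ) (j : ℕ) (z : F) :
    let x := (⟨T3 hF ω, T3_mem hF ω⟩ : Bor hF) ^ j * ⟨U3 hF 1 b₀ e₀, U3_mem hF e₀⟩ *
      ((⟨T3 hF ω, T3_mem hF ω⟩ : Bor hF) ^ j)⁻¹
    cor hF x = 1 ∧ (SU3Data.aff x).1 z = z + mu q ((ω : F) ^ j) := by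
  intro x
  refine ⟨by rw [map_mul, map_mul, map_inv, cor_U3, mul_one, mul_inv_cancel], ?_⟩
  have hT : (⟨T3 hF ω, T3_mem hF ω⟩ : Bor hF) ^ j = ⟨T3 hF (ω ^ j), T3_mem hF _⟩ :=
    Subtype.ext (map_pow (T3 hF) ω j).symm
  have e := T3_conj hF (ω ^ j) e₀
  have hx : x = ⟨_, U3_mem hF (T3_conj_cond hF (ω ^ j) e₀)⟩ := Subtype.ext (by
    show (_ : Bor hF).1 * _ * (_ : Bor hF).1⁻¹ = _
    rw [hT]; exact e)
  rw [hx, SU3Data.aff_U3, mul_one, Units.val_pow_eq_pow_val]

theorem aff_trans {x : Bor hF} {a : F} (hx : ∀ z, (SU3Data.aff x).1 z = z + a) :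
    SU3Data.aff x = SU3Data.trans F (.ofAdd a) :=
  Units.ext (funext fun z => hx z)

theorem map_comm_one {A B : Type*} [Group A] [Group B] (f : A →* B) {x u : A} (h : Commute (f x) (f u)) :
    f (x * u * (u * x)⁻¹) = 1 := by
  rw [map_mul, map_inv, map_mul, map_mul, h.eq, mul_inv_cancel]

theorem trans_comm (a b : F) :
    Commute (SU3Data.trans F (.ofAdd a)) (SU3Data.trans F (.ofAdd b)) :=
  (Commute.all (Multiplicative.ofAdd a) (Multiplicative.ofAdd b)).map (SU3Data.trans F)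

theorem exists_long_of_trans {x : Bor hF} (h1 : cor hF x = 1) (h2 : SU3Data.aff x = 1) :
    ∃ t : Kf hF, x.1 = iota hF hδ hδ0 (matU t) :=
  exists_long hF hδ hδ0 h1 fun z => by rw [h2]; rfl

variable {ω : Fˣ} (hω : ∀ x : Fˣ, x ∈ Subgroup.zpowers ω) {ν : (Kf hF)ˣ} (hν : kUnit hF ν = ω ^ (q + 1))
  {b₀ : F} (e₀ : b₀ + b₀ ^ q + (1 : F) * (1 : F) ^ q = 0)

include hω hν e₀ hδ hδ0 in
/-- The general case. -/
theorem hasPres_general {e : ℕ} (hq : q = p ^ e) (h2 : q ≠ 2) (h5 : q ≠ 5) (h8 : q ≠ 8) {rS : ℕ}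
    (hS : HasPres 3 rS (Matrix.SpecialLinearGroup (Fin 2) (Kf hF))) :
    HasPres 3 (rS + 14) (H3 F q) := by
  classical
  obtain ⟨hc, k, b, hsurj, hkb⟩ := exists_pair (p := p) hω hq hF h2 h5 h8
  obtain ⟨P, hP⟩ := hc (mu q (ω : F))
  set uB : Bor hF := ⟨U3 hF 1 b₀ e₀, U3_mem hF e₀⟩ with huB
  set hB : Bor hF := ⟨T3 hF ω, T3_mem hF ω⟩ with hhB
  have hcj : ∀ j, cor hF (hB ^ j * uB * (hB ^ j)⁻¹) = 1 := fun j => (aff_conj hF e₀ ω j 0).1
  have haj : ∀ j, SU3Data.aff (hB ^ j * uB * (hB ^ j)⁻¹) = SU3Data.trans F (.ofAdd (mu q ((ω : F) ^ j))) :=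
    fun j => aff_trans hF fun z => (aff_conj hF e₀ ω j z).2
  have hcu : cor hF uB = 1 := cor_U3 hF e₀
  have hau : SU3Data.aff uB = SU3Data.trans F (.ofAdd 1) := aff_trans hF fun z => SU3Data.aff_U3 e₀ z
  obtain ⟨s, hs⟩ := exists_long_of_trans hF hδ hδ0
    (x := (polyWord uB (hB ^ (q - 1)) P)⁻¹ * (hB ^ 1 * uB * (hB ^ 1)⁻¹))
    (by rw [map_mul, map_inv, (aff_polyWord hF e₀ ω (q - 1) P 0).1, hcj, inv_one, one_mul])
    (by rw [map_mul, map_inv, haj, aff_trans hF (fun z => (aff_polyWord hF e₀ ω (q - 1) P z).2), hP, pow_one,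
      inv_mul_cancel])
  obtain ⟨t1, ht1⟩ := exists_long_of_trans hF hδ hδ0
    (x := hB ^ k * uB * (hB ^ k)⁻¹ * uB * (uB * (hB ^ k * uB * (hB ^ k)⁻¹))⁻¹)
    (map_comm_one (cor hF) (by rw [hcu]; exact Commute.one_right _))
    (map_comm_one SU3Data.aff (by rw [hau, haj]; exact trans_comm _ _))
  obtain ⟨t2, ht2⟩ := exists_long_of_trans hF hδ hδ0
    (x := hB ^ b * uB * (hB ^ b)⁻¹ * (uB * (hB ^ k * uB * (hB ^ k)⁻¹))⁻¹)
    (by rw [map_mul, map_inv, hcj, map_mul, hcu, hcj, one_mul, one_mul, inv_one])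
    (by rw [map_mul, map_inv, haj, map_mul, hau, haj, ← map_mul, ← map_inv, ← map_mul, ← ofAdd_add, hkb,
      mul_inv_cancel, map_one])
  have hlift : ∀ v : Bor hF, (v : H3 F q) = (Bor hF).subtype v := fun v => rfl
  refine (hasPres_core hF hδ hδ0 hω hν e₀ hsurj hS (L := 4)
    (fun wd => [FreeGroup.of 0 * wd (matU 1) * (FreeGroup.of 0)⁻¹ * (wd (matU 1))⁻¹,
      FreeGroup.of 1 * FreeGroup.of 0 * (FreeGroup.of 1)⁻¹ *
        (polyWord (FreeGroup.of 0) (FreeGroup.of 1 ^ (q - 1)) P * wd (matU s))⁻¹,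
      FreeGroup.of 1 ^ k * FreeGroup.of 0 * (FreeGroup.of 1 ^ k)⁻¹ * FreeGroup.of 0 *
        (FreeGroup.of 0 * (FreeGroup.of 1 ^ k * FreeGroup.of 0 * (FreeGroup.of 1 ^ k)⁻¹))⁻¹ * (wd (matU t1))⁻¹,
      FreeGroup.of 1 ^ b * FreeGroup.of 0 * (FreeGroup.of 1 ^ b)⁻¹ *
        (FreeGroup.of 0 * (FreeGroup.of 1 ^ k * FreeGroup.of 0 * (FreeGroup.of 1 ^ k)⁻¹))⁻¹ * (wd (matU t2))⁻¹])
    (fun _ => le_rfl) ?_ ?_).mono (by omega)
  · intro wd hwd r hr
    simp only [List.mem_cons, List.not_mem_nil, or_false] at hr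
    rcases hr with rfl | rfl | rfl | rfl
    · simp only [map_mul, map_inv, FreeGroup.lift_apply_of, hwd, Matrix.cons_val_zero]
      rw [mul_inv_eq_one, mul_inv_eq_iff_eq_mul, iota_matU, U3_mul, U3_mul]
      refine U3_congr hF _ _ (by ring) ?_
      simp [zero_pow_q hF]
      ring
    · simp only [map_mul, map_inv, map_polyWord, map_pow, FreeGroup.lift_apply_of, hwd, Matrix.cons_val_zero,
        Matrix.cons_val_one]
      rw [mul_inv_eq_one, ← hs, hlift, map_mul, map_inv, map_polyWord, map_pow, map_mul, map_mul, map_inv,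
        map_pow, pow_one]
      show _ = polyWord (U3 hF 1 b₀ e₀) (T3 hF ω ^ (q - 1)) P * ((polyWord (U3 hF 1 b₀ e₀) (T3 hF ω ^ (q - 1)) P)⁻¹ * _)
      rw [mul_inv_cancel_left]
      rfl
    · simp only [map_mul, map_inv, map_pow, FreeGroup.lift_apply_of, hwd, Matrix.cons_val_zero,
        Matrix.cons_val_one]
      rw [mul_inv_eq_one, ← ht1]
      rfl
    · simp only [map_mul, map_inv, map_pow, FreeGroup.lift_apply_of, hwd, Matrix.cons_val_zero,
        Matrix.cons_val_one]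
      rw [mul_inv_eq_one, ← ht2]
      rfl
  · intro G _ m χ wd hχ hrel hconj hord _
    have h1 := hrel _ (List.mem_cons_self ..)
    have h2' := hrel _ (List.mem_cons_of_mem _ (List.mem_cons_self ..))
    have h3 := hrel _ (List.mem_cons_of_mem _ (List.mem_cons_of_mem _ (List.mem_cons_self ..)))
    have h4 := hrel _ (List.mem_cons_of_mem _ (List.mem_cons_of_mem _ (List.mem_cons_of_mem _
      (List.mem_cons_self ..))))
    simp only [map_mul, map_inv, map_pow, map_polyWord, hχ] at h1 h2' h3 h4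
    have hu1 : Commute (m (FreeGroup.of 0)) (χ (matU 1)) :=
      mul_inv_eq_iff_eq_mul.1 (mul_inv_eq_one.1 h1)
    have hνgen : ∀ x : (Kf hF)ˣ, ∃ i : ℕ, ν ^ i = x := by
      intro x
      obtain ⟨j, hj⟩ := mem_powers_iff_mem_zpowers.2 (hω (kUnit hF x))
      have hj' : ((ω : F) ^ j) ^ q = (ω : F) ^ j := by
        rw [← Units.val_pow_eq_pow_val, show ω ^ j = _ from hj]
        exact Kf_fixed hF _
      obtain ⟨i, rfl⟩ := (gen_fixed hω hF j).1 hj'
      refine ⟨i, ?_⟩
      have e : kUnit hF (ν ^ i) = kUnit hF x := by rw [map_pow, hν, ← pow_mul]; exact hj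
      exact Units.ext (Subtype.ext (congrArg Units.val e))
    have hν1 : ν ^ (q - 1) = 1 := by
      refine Units.ext (Subtype.ext (congrArg Units.val (?_ : kUnit hF (ν ^ (q - 1)) = 1)))
      rw [map_pow, hν, ← pow_mul, ← orderOf_gen hω hF, pow_orderOf_eq_one]
    have huz := comm_of_span χ ν hνgen hconj (SU3Data.one_le_card (hF := hF)) hord hν1 hu1 (mul_inv_eq_one.1 h2')
    refine ⟨huz, comm_of_step χ (u_norm χ huz) (h_norm χ hconj) ?_ ?_ (b := b)⟩
    · rw [mul_inv_eq_one.1 h3]; exact mem_longG χ _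
    · rw [mul_inv_eq_one.1 h4]; exact mem_longG χ _

include hω hν e₀ hδ hδ0 in
/-- The two small fields `q = 5` and `q = 8`. -/
theorem hasPres_small {e : ℕ} (hq : q = p ^ e) (hs : q = 5 ∨ q = 8) {rS : ℕ}
    (hS : HasPres 3 rS (Matrix.SpecialLinearGroup (Fin 2) (Kf hF))) :
    HasPres 3 (rS + 3 * e + 9) (H3 F q) := by
  classical
  letI : Algebra (ZMod p) (Kf hF) :=
    haveI : CharP F p := charP_of_injective_algebraMap (algebraMap (ZMod p) F).injective p
    haveI : CharP (Kf hF) p := (RingHom.charP_iff_charP (Kf hF).subtype p).2 inferInstance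
    ZMod.algebra _ p
  have hsurj : Function.Surjective (aeval (mu q ((ω : F) ^ 1)) : (ZMod p)[X] → F) := by
    rw [pow_one]; exact exists_gen_small hω hq hF hs
  have he1 : 1 ≤ e := by
    by_contra h
    obtain rfl : e = 0 := by omega
    rcases hs with rfl | rfl <;> simp at hq
  have hdim : Module.finrank (ZMod p) (Kf hF) = e := by
    have h : Nat.card (Kf hF) = p ^ Module.finrank (ZMod p) (Kf hF) := by
      rw [Module.natCard_eq_pow_finrank (K := ZMod p), Nat.card_zmod]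
    rw [Nat.card_eq_fintype_card, card_Kf] at h
    exact (Nat.pow_right_injective (Fact.out : p.Prime).two_le (hq ▸ h)).symm
  let bas := Module.finBasis (ZMod p) (Kf hF)
  set α := mu q ((ω : F) ^ 1) with hα
  set f := minpoly (ZMod p) α with hf
  have hfdeg : f.natDegree ≤ 2 * e := by
    refine (minpoly.natDegree_le α).trans (le_of_eq ?_)
    have h : Nat.card F = p ^ Module.finrank (ZMod p) F := by
      rw [Module.natCard_eq_pow_finrank (K := ZMod p), Nat.card_zmod]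
    rw [Nat.card_eq_fintype_card, hF, hq, ← pow_mul, mul_comm e] at h
    exact (Nat.pow_right_injective (Fact.out : p.Prime).two_le h).symm
  set uB : Bor hF := ⟨U3 hF 1 b₀ e₀, U3_mem hF e₀⟩ with huB
  set hB : Bor hF := ⟨T3 hF ω, T3_mem hF ω⟩ with hhB
  have hcu : cor hF uB = 1 := cor_U3 hF e₀
  have hau : SU3Data.aff uB = SU3Data.trans F (.ofAdd 1) := aff_trans hF fun z => SU3Data.aff_U3 e₀ z
  have hcj : ∀ i, cor hF ((hB ^ 1) ^ i * uB * ((hB ^ 1) ^ i)⁻¹) = 1 := fun i => by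
    rw [← pow_mul]; exact (aff_conj hF e₀ ω _ 0).1
  have haj : ∀ i, SU3Data.aff ((hB ^ 1) ^ i * uB * ((hB ^ 1) ^ i)⁻¹) =
      SU3Data.trans F (.ofAdd (mu q ((ω : F) ^ (1 * i)))) := fun i => by
    rw [← pow_mul]; exact aff_trans hF fun z => (aff_conj hF e₀ ω _ z).2
  choose T hT using fun i : ℕ => exists_long_of_trans hF hδ hδ0
    (x := (hB ^ 1) ^ i * uB * ((hB ^ 1) ^ i)⁻¹ * uB * (uB * ((hB ^ 1) ^ i * uB * ((hB ^ 1) ^ i)⁻¹))⁻¹)
    (map_comm_one (cor hF) (by rw [hcu]; exact Commute.one_right _))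
    (map_comm_one SU3Data.aff (by rw [hau, haj]; exact trans_comm _ _))
  refine (hasPres_core hF hδ hδ0 hω hν e₀ hsurj hS (L := e + (2 * e - 1))
    (fun wd => ((List.finRange (Module.finrank (ZMod p) (Kf hF))).map fun i =>
        FreeGroup.of 0 * wd (matU (bas i)) * (FreeGroup.of 0)⁻¹ * (wd (matU (bas i)))⁻¹) ++
      ((List.range (2 * e - 1)).map fun i =>
        (FreeGroup.of 1 ^ 1) ^ (i + 1) * FreeGroup.of 0 * ((FreeGroup.of 1 ^ 1) ^ (i + 1))⁻¹ * FreeGroup.of 0 *
          (FreeGroup.of 0 * ((FreeGroup.of 1 ^ 1) ^ (i + 1) * FreeGroup.of 0 *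
            ((FreeGroup.of 1 ^ 1) ^ (i + 1))⁻¹))⁻¹ * (wd (matU (T (i + 1))))⁻¹))
    (fun _ => by simp [hdim]) ?_ ?_).mono (by omega)
  · intro wd hwd r hr
    simp only [List.mem_append, List.mem_map] at hr
    rcases hr with ⟨i, -, rfl⟩ | ⟨i, -, rfl⟩
    · simp only [map_mul, map_inv, FreeGroup.lift_apply_of, hwd, Matrix.cons_val_zero]
      rw [mul_inv_eq_one, mul_inv_eq_iff_eq_mul, iota_matU, U3_mul, U3_mul]
      refine U3_congr hF _ _ (by ring) ?_
      simp [zero_pow_q hF]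
      ring
    · simp only [map_mul, map_inv, map_pow, FreeGroup.lift_apply_of, hwd, Matrix.cons_val_zero,
        Matrix.cons_val_one]
      rw [mul_inv_eq_one, ← hT]
      rfl
  · intro G _ m χ wd hχ hrel hconj hord hmin
    have huz : ∀ t, Commute (m (FreeGroup.of 0)) (χ (matU t)) :=
      comm_of_basis χ (p := p) bas bas.span_eq fun i => by
        have h := hrel _ (List.mem_append_left _ (List.mem_map.2 ⟨i, List.mem_finRange i, rfl⟩))
        simp only [map_mul, map_inv, hχ] at h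
        exact mul_inv_eq_iff_eq_mul.1 (mul_inv_eq_one.1 h)
    refine ⟨huz, comm_of_relation χ (u_norm χ huz) (h_norm χ hconj)
      (minpoly.monic (Algebra.IsIntegral.isIntegral α)) hmin fun i hi => ?_⟩
    rcases i with _ | i
    · simp [one_mem]
    have h := hrel _ (List.mem_append_right _ (List.mem_map.2
      ⟨i, List.mem_range.2 (by simp only [← hf] at hi; omega), rfl⟩))
    simp only [map_mul, map_inv, map_pow, hχ] at h
    rw [mul_inv_eq_one.1 h]
    exact mem_longG χ _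

end main

/-- `SU₃(q)` on three generators with at most twenty-three relations. -/
theorem hasPres_H3 (hF : Fintype.card F = q ^ 2) (h2 : q ≠ 2) : HasPres 3 23 (H3 F q) := by
  classical
  obtain ⟨p, e, hp, hchar, he, hq⟩ := q_eq_primePow hF
  haveI : Fact p.Prime := ⟨hp⟩
  letI : Algebra (ZMod p) F := ZMod.algebra F p
  haveI : CharP (Kf hF) p := (RingHom.charP_iff_charP (Kf hF).subtype p).2 hchar
  obtain ⟨δ, hδ0, hδ'⟩ := exists_trace_zero_ne_zero hF
  have hδ : δ ^ q = -δ := by linear_combination hδ'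
  obtain ⟨ω, hω⟩ := IsCyclic.exists_generator (α := Fˣ)
  obtain ⟨b₀, hb₀⟩ := trace_surj hF (y := (-1 : F)) (by rw [neg_pow_q hF, one_pow])
  have e₀ : b₀ + b₀ ^ q + (1 : F) * (1 : F) ^ q = 0 := by rw [one_pow, hb₀]; ring
  have hmem : ((ω : F) ^ (q + 1)) ∈ Kf hF := (mem_Kf hF).2 ((gen_fixed hω hF _).2 dvd_rfl)
  let ν : (Kf hF)ˣ := Units.mk0 ⟨_, hmem⟩ fun h => pow_ne_zero _ ω.ne_zero (congrArg Subtype.val h)
  have hν : kUnit hF ν = ω ^ (q + 1) := Units.ext (by rw [kUnit_coe, Units.val_pow_eq_pow_val]; rfl)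
  by_cases hp2 : p = 2
  · subst hp2
    haveI : CharP (Kf hF) 2 := inferInstance
    have hS : HasPres 3 5 (Matrix.SpecialLinearGroup (Fin 2) (Kf hF)) :=
      ShortPresSL2.exists_five (F := Kf hF) _ (MonoidHom.id _) Function.surjective_id Linear.card_SL_two
    by_cases h8 : q = 8
    · have he3 : e = 3 := Nat.pow_right_injective (le_refl 2) (by
        show 2 ^ e = 2 ^ 3
        rw [← hq, h8])
      exact (hasPres_small hF hδ hδ0 hω hν e₀ hq (Or.inr h8) hS).mono (by omega)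
    have h5 : q ≠ 5 := by
      intro h
      have : 2 ∣ 5 := by rw [← h, hq]; exact dvd_pow_self 2 (by omega)
      norm_num at this
    exact (hasPres_general hF hδ hδ0 hω hν e₀ hq h2 h5 h8 hS).mono (by norm_num)
  · letI : Algebra (ZMod p) (Kf hF) := ZMod.algebra _ p
    have hS : HasPres 3 9 (Matrix.SpecialLinearGroup (Fin 2) (Kf hF)) :=
      (ShortPresSL2.exists_nine_sl (F := Kf hF) (p := p) hp2).1
    have h8 : q ≠ 8 := by
      intro h
      have hd : p ∣ 2 ^ 3 := by rw [show (2 : ℕ) ^ 3 = q by rw [h]; norm_num, hq]; exact dvd_pow_self p (by omega)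
      exact hp2 ((Nat.prime_dvd_prime_iff_eq hp Nat.prime_two).1 (hp.dvd_of_dvd_pow hd))
    by_cases h5 : q = 5
    · have he1 : e = 1 := by
        have h' := hq.symm.trans h5
        have hp3 : 3 ≤ p := by have := hp.two_le; omega
        by_contra hne
        have : 3 ^ 2 ≤ p ^ e :=
          (Nat.pow_le_pow_left hp3 2).trans (Nat.pow_le_pow_right hp.pos (by omega))
        omega
      exact (hasPres_small hF hδ hδ0 hω hν e₀ hq (Or.inl h5) hS).mono (by omega)
    exact (hasPres_general hF hδ hδ0 hω hν e₀ hq h2 h5 h8 hS).mono (by norm_num)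

end Cfsg.Agent.Lib.ShortPresSU3
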