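import Mathlib
import Cfsg.Agent.Lib.Unitary.Basic

/-!
# Short presentations of `SU₃`, part 1: the field

The torus acts on `U/Z` through `l ↦ l ^ (2 q - 1)`.  Its image contains the fixed field, and for
`q ∉ {2, 5, 8}` two of its elements differing by one generate the field.
-/

set_option autoImplicit false
set_option linter.unusedSectionVars false

namespace Cfsg.Agent.Lib.ShortPresSU3

open Polynomial Cfsg.Agent.Lib.Unitary

variable {F : Type*} [Field F] [Fintype F] {q : ℕ}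

/-- The action of the torus on `U/Z`. -/
def mu (q : ℕ) : F →* F := powMonoidHom (2 * q - 1)

theorem mu_apply (l : F) : mu q l = l ^ (2 * q - 1) := rfl

theorem mu_fixed (hF : Fintype.card F = q ^ 2) {k : F} (hk : k ^ q = k) : mu q k = k := by
  rcases eq_or_ne k 0 with rfl | h0
  · exact zero_pow (by have := one_lt_q hF; omega)
  refine mul_right_cancel₀ h0 ?_
  rw [mu_apply, ← pow_succ, show 2 * q - 1 + 1 = q + q by have := one_lt_q hF; omega, pow_add, hk]

theorem mu_eq (hF : Fintype.card F = q ^ 2) {l : F} (hl : l ≠ 0) : mu q l = l ^ q * l ^ q / l := by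
  rw [eq_div_iff hl, mu_apply, ← pow_succ,
    show 2 * q - 1 + 1 = q + q by have := one_lt_q hF; omega, pow_add]

theorem norm_mu (hF : Fintype.card F = q ^ 2) (l : F) : mu q l * mu q l ^ q = l * l ^ q := by
  have h : (l * l ^ q) ^ q = l * l ^ q := by rw [mul_pow, pow_q_q hF, mul_comm]
  have h1 := mu_fixed hF h
  rwa [map_mul, map_pow] at h1

/-! ### Elements generating the field -/

theorem pow_exp_mul {p f : ℕ} {a : F} (h : a ^ p ^ f = a) (k : ℕ) : a ^ p ^ (f * k) = a := by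
  induction k with
  | zero => simp
  | succ k ih => rw [Nat.mul_succ, pow_add, pow_mul, ih, h]

theorem half_cases {e f : ℕ} (h : f ∣ 2 * e) (hlt : f < 2 * e) :
    f ∣ e ∨ ∃ d, f = 2 * d ∧ d ∣ e ∧ 1 ≤ d ∧ 3 * d ≤ e := by
  rcases Nat.even_or_odd f with hev | ho
  · obtain ⟨d, rfl⟩ := hev
    rw [← two_mul] at h hlt ⊢
    obtain ⟨k, rfl⟩ := Nat.dvd_of_mul_dvd_mul_left two_pos h
    rcases Nat.lt_or_ge k 3 with hk | hk
    · interval_cases k
      · omega
      · omega
      · exact Or.inl ⟨1, by ring⟩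
    · exact Or.inr ⟨d, rfl, ⟨k, rfl⟩, by rcases Nat.eq_zero_or_pos d with rfl | h0 <;> omega,
        by nlinarith⟩
  · exact Or.inl ((Nat.Coprime.dvd_mul_left (Nat.coprime_two_right.2 ho)).1 h)

/-- An element outside the fixed field and the smaller subfields generates. -/
theorem aeval_surjective {p e : ℕ} [Fact p.Prime] [Algebra (ZMod p) F] (hq : q = p ^ e)
    (hF : Fintype.card F = q ^ 2) (a : F) (h1 : a ^ q ≠ a)
    (h2 : ∀ d, d ∣ e → 1 ≤ d → 3 * d ≤ e → a ^ p ^ (2 * d) ≠ a) :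
    Function.Surjective (aeval a : (ZMod p)[X] → F) := by
  classical
  have hp : p.Prime := Fact.out
  set E := IntermediateField.adjoin (ZMod p) ({a} : Set F) with hE
  by_cases htop : E = ⊤
  · intro x
    have hx : x ∈ E.toSubalgebra := by rw [htop]; trivial
    rw [hE, IntermediateField.adjoin_simple_toSubalgebra_of_isAlgebraic
      (Algebra.IsAlgebraic.isAlgebraic a), Algebra.adjoin_singleton_eq_range_aeval] at hx
    obtain ⟨P, hP⟩ := hx
    exact ⟨P, hP⟩
  exfalso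
  set f := Module.finrank (ZMod p) E with hf
  have hcard : Nat.card F = p ^ Module.finrank (ZMod p) F := by
    rw [Module.natCard_eq_pow_finrank (K := ZMod p), Nat.card_zmod]
  have hfin : Module.finrank (ZMod p) F = 2 * e := by
    rw [Nat.card_eq_fintype_card, hF, hq, ← pow_mul, mul_comm e] at hcard
    exact (Nat.pow_right_injective hp.two_le hcard).symm
  have hdvd : f ∣ 2 * e := ⟨Module.finrank E F, by rw [← hfin, Module.finrank_mul_finrank]⟩
  have hle : f ≤ 2 * e := Nat.le_of_dvd (by rw [← hfin]; exact Module.finrank_pos) hdvd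
  have hne : f ≠ 2 * e := fun h => htop (IntermediateField.toSubalgebra_injective (by
    rw [IntermediateField.top_toSubalgebra]
    exact Algebra.toSubmodule_eq_top.1 (Submodule.eq_top_of_finrank_eq (h.trans hfin.symm))))
  have hpow : a ^ p ^ f = a := by
    have hcE : Nat.card E = p ^ f := by rw [Module.natCard_eq_pow_finrank (K := ZMod p), Nat.card_zmod]
    haveI : Fintype E := Fintype.ofFinite E
    have h := congrArg Subtype.val
      (FiniteField.pow_card (⟨a, IntermediateField.mem_adjoin_simple_self (ZMod p) a⟩ : E))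
    rw [← Nat.card_eq_fintype_card, hcE] at h
    simpa using h
  rcases half_cases hdvd (lt_of_le_of_ne hle hne) with hfe | ⟨d, hd, hde, hd1, hd3⟩
  · obtain ⟨k, hk⟩ := hfe
    exact h1 (by rw [hq, hk]; exact pow_exp_mul hpow k)
  · exact h2 d hde hd1 hd3 (hd ▸ hpow)

/-! ### A generator of the multiplicative group -/

variable {w : Fˣ} (hw : ∀ x : Fˣ, x ∈ Subgroup.zpowers w)

include hw

theorem orderOf_gen (hF : Fintype.card F = q ^ 2) : orderOf w = (q + 1) * (q - 1) := by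
  classical
  rw [orderOf_eq_card_of_forall_mem_zpowers hw, Nat.card_eq_fintype_card, Fintype.card_units, hF,
    ← Nat.sq_sub_sq, one_pow]

theorem gen_pow_eq_one (hF : Fintype.card F = q ^ 2) (j : ℕ) :
    (w : F) ^ j = 1 ↔ (q + 1) * (q - 1) ∣ j := by
  rw [← Units.val_pow_eq_pow_val, Units.val_eq_one, ← orderOf_gen hw hF, orderOf_dvd_iff_pow_eq_one]

theorem gen_fixed (hF : Fintype.card F = q ^ 2) (j : ℕ) :
    ((w : F) ^ j) ^ q = (w : F) ^ j ↔ q + 1 ∣ j := by
  have h1 := one_lt_q hF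
  rw [← Nat.sub_add_cancel h1.le, pow_succ, mul_eq_right₀ (pow_ne_zero _ w.ne_zero),
    Nat.sub_add_cancel h1.le, ← pow_mul, gen_pow_eq_one hw hF, mul_comm j,
    mul_comm (q + 1) (q - 1), Nat.mul_dvd_mul_iff_left (show 0 < q - 1 by omega)]

omit hw in
theorem big_dvd {p e d : ℕ} (hp : p.Prime) (hq : q = p ^ e) (hde : d ∣ e) (hd1 : 1 ≤ d)
    (hd : 3 * d ≤ e) (h8 : q ≠ 8) : ¬ q + 1 ∣ 6 * (p ^ (2 * d) - 1) := by
  intro h
  have hP : 2 ≤ p ^ d := le_trans hp.two_le (Nat.le_self_pow (by omega) p)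
  have hq3 : (p ^ d) ^ 3 ≤ q := by
    rw [hq, ← pow_mul]; exact Nat.pow_le_pow_right hp.pos (by omega)
  have hX : p ^ (2 * d) - 1 = (p ^ d - 1) * (p ^ d + 1) := by
    rw [mul_comm (p ^ d - 1), ← Nat.sq_sub_sq, one_pow, ← pow_mul, mul_comm d]
  rw [hX, mul_left_comm] at h
  have hg : Nat.gcd (q + 1) (p ^ d - 1) ∣ 2 := by
    have h1 : p ^ d - 1 ∣ q - 1 := by rw [hq]; exact Nat.pow_sub_one_dvd_pow_sub_one p hde
    have h2 := Nat.dvd_sub (Nat.gcd_dvd_left (q + 1) (p ^ d - 1))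
      ((Nat.gcd_dvd_right (q + 1) (p ^ d - 1)).trans h1)
    rwa [show q + 1 - (q - 1) = 2 by have : 2 ≤ q := hP.trans (le_trans (Nat.le_self_pow (by omega) _) hq3); omega] at h2
  have h12 : q + 1 ∣ 2 * (6 * (p ^ d + 1)) :=
    (Nat.dvd_gcd_mul_iff_dvd_mul.2 h).trans (Nat.mul_dvd_mul_right hg _)
  have hle := Nat.le_of_dvd (by positivity) h12
  have hP4 : p ^ d ≤ 3 := by
    by_contra hc
    nlinarith [Nat.mul_le_mul (show 4 ≤ p ^ d by omega) (show 4 ≤ p ^ d by omega), hq3]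
  obtain rfl : d = 1 := by
    by_contra hne
    have : p ^ 2 ≤ p ^ d := Nat.pow_le_pow_right hp.pos (by omega)
    nlinarith [hp.two_le]
  rw [pow_one] at hP4 hle h12
  have he : e < 6 := by
    by_contra hc
    have h6 : 2 ^ 6 ≤ q := by
      rw [hq]
      exact le_trans (Nat.pow_le_pow_left hp.two_le 6) (Nat.pow_le_pow_right hp.pos (by omega))
    norm_num at h6
    omega
  have hp2 := hp.two_le
  interval_cases p <;> interval_cases e <;> simp_all

/-- The element of norm one in the image of `mu`. -/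
theorem mu_small_ne (hF : Fintype.card F = q ^ 2) (h2 : q ≠ 2) (h5 : q ≠ 5) :
    mu q ((w : F) ^ (q - 1)) ^ q ≠ mu q ((w : F) ^ (q - 1)) := by
  rw [mu_apply, ← pow_mul (w : F) (q - 1) (2 * q - 1), Ne, gen_fixed hw hF]
  intro h
  have h1 := one_lt_q hF
  have h6 : q + 1 ∣ 6 := by
    have e : (q - 1) * (2 * q - 1) + (q + 1) * 5 = (q + 1) * (2 * q) + 6 := by
      obtain ⟨r, rfl⟩ : ∃ r, q = r + 1 := ⟨q - 1, by omega⟩
      rw [Nat.add_sub_cancel, show 2 * (r + 1) - 1 = 2 * r + 1 by omega]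
      ring
    exact (Nat.dvd_add_right (dvd_mul_right _ _)).1 (e ▸ Nat.dvd_add h (dvd_mul_right _ _))
  have hle := Nat.le_of_dvd (by norm_num) h6
  have : q ≤ 5 := by omega
  interval_cases q <;> simp_all

omit hw in
theorem dvd_six_of {X : ℕ} (hq : 1 < q) (h : q + 1 ∣ (q - 1) * (2 * q - 1) * X) : q + 1 ∣ 6 * X := by
  have e : (q - 1) * (2 * q - 1) * X + (q + 1) * (5 * X) = (q + 1) * (2 * q * X) + 6 * X := by
    obtain ⟨r, rfl⟩ : ∃ r, q = r + 1 := ⟨q - 1, by omega⟩
    rw [Nat.add_sub_cancel, show 2 * (r + 1) - 1 = 2 * r + 1 by omega]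
    ring
  exact (Nat.dvd_add_right (dvd_mul_right _ _)).1 (e ▸ Nat.dvd_add h (dvd_mul_right _ _))

omit hw in
theorem pow_sub_one_eq_one {a : F} (ha : a ≠ 0) {N : ℕ} (hN : 1 ≤ N) (h : a ^ N = a) :
    a ^ (N - 1) = 1 := by
  refine mul_right_cancel₀ ha ?_
  rw [← pow_succ, Nat.sub_add_cancel hN, h, one_mul]

/-- The two elements of the image of `mu` used in the presentation. -/
theorem exists_pair {p e : ℕ} [Fact p.Prime] [Algebra (ZMod p) F] (hq : q = p ^ e)
    (hF : Fintype.card F = q ^ 2) (h2 : q ≠ 2) (h5 : q ≠ 5) (h8 : q ≠ 8) :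
    Function.Surjective (aeval (mu q ((w : F) ^ (q - 1))) : (ZMod p)[X] → F) ∧
      ∃ k b : ℕ, Function.Surjective (aeval (mu q ((w : F) ^ k)) : (ZMod p)[X] → F) ∧
        mu q ((w : F) ^ b) = 1 + mu q ((w : F) ^ k) := by
  have hp : p.Prime := Fact.out
  have h1 := one_lt_q hF
  set c := mu q ((w : F) ^ (q - 1)) with hc
  have hcK := mu_small_ne hw hF h2 h5
  have hc0 : c ≠ 0 := pow_ne_zero _ (pow_ne_zero _ w.ne_zero)
  have hsub : ∀ d, d ∣ e → 1 ≤ d → 3 * d ≤ e →
      c ^ p ^ (2 * d) ≠ c ∧ (c ^ (q - 1)) ^ p ^ (2 * d) ≠ c ^ (q - 1) := by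
    intro d hd hd1 hd3
    have hN : 1 ≤ p ^ (2 * d) := Nat.one_le_pow _ _ hp.pos
    have key : (c ^ (q - 1)) ^ p ^ (2 * d) ≠ c ^ (q - 1) := by
      intro h
      have h' := pow_sub_one_eq_one (pow_ne_zero _ hc0) hN h
      rw [hc, mu_apply, ← pow_mul, ← pow_mul, ← pow_mul, gen_pow_eq_one hw hF] at h'
      have h'' : q + 1 ∣ (q - 1) * (2 * q - 1) * (p ^ (2 * d) - 1) := by
        refine Nat.dvd_of_mul_dvd_mul_right (show 0 < q - 1 by omega) ?_
        convert h' using 1; ring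
      exact big_dvd hp hq hd hd1 hd3 h8 (dvd_six_of h1 h'')
    exact ⟨fun h => key (by rw [← pow_mul, mul_comm, pow_mul, h]), key⟩
  refine ⟨aeval_surjective hq hF c hcK fun d a b e => (hsub d a b e).1, ?_⟩
  set z := (w : F) ^ 3 with hz
  have hcd : c - c ^ q ≠ 0 := sub_ne_zero.2 (Ne.symm hcK)
  set y := (z - z ^ q) / (c - c ^ q) with hy
  set x := z - y * c with hx
  have hyK : y ^ q = y := by
    rw [hy, div_pow, sub_pow_q hF, sub_pow_q hF, pow_q_q hF, pow_q_q hF, ← neg_sub z, ← neg_sub c,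
      neg_div_neg_eq]
  have hxK : x ^ q = x := by
    rw [hx, sub_pow_q hF, mul_pow, hyK]
    have : y * (c - c ^ q) = z - z ^ q := div_mul_cancel₀ _ hcd
    linear_combination this
  have hzK : ¬ q + 1 ∣ 3 := fun h => by
    have := Nat.le_of_dvd (by norm_num) h
    omega
  have hy0 : y ≠ 0 := by
    rw [hy]
    refine div_ne_zero (sub_ne_zero.2 fun h => hzK ?_) hcd
    exact (gen_fixed hw hF 3).1 h.symm
  have hx0 : x ≠ 0 := by
    intro h
    rw [hx, sub_eq_zero] at h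
    have hq1 : z ^ (q - 1) = c ^ (q - 1) := by
      rw [h, mul_pow, pow_sub_one_eq_one hy0 h1.le hyK, one_mul]
    rw [hz, hc, mu_apply, ← pow_mul, ← pow_mul, ← pow_mul] at hq1
    have hmod : 3 * (q - 1) ≡ (q - 1) * (2 * q - 1) * (q - 1) [MOD (q + 1) * (q - 1)] := by
      rw [← orderOf_gen hw hF, ← pow_eq_pow_iff_modEq]
      exact Units.ext (by rw [Units.val_pow_eq_pow_val, Units.val_pow_eq_pow_val, mul_assoc (q - 1)]; exact hq1)
    have h' : 3 ≡ (q - 1) * (2 * q - 1) [MOD q + 1] :=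
      Nat.ModEq.mul_right_cancel' (show q - 1 ≠ 0 by omega) hmod
    have e' : (q - 1) * (2 * q - 1) + (q + 1) * 5 = (q + 1) * (2 * q) + 6 := by
      obtain ⟨r, hr⟩ : ∃ r, q = r + 1 := ⟨q - 1, by omega⟩
      rw [hr, Nat.add_sub_cancel, show 2 * (r + 1) - 1 = 2 * r + 1 by omega]
      ring
    have h6 : 3 ≡ 6 [MOD q + 1] := by
      refine h'.trans ?_
      have : (q - 1) * (2 * q - 1) + (q + 1) * 5 ≡ (q + 1) * (2 * q) + 6 [MOD q + 1] := by rw [e']
      simpa [Nat.ModEq, Nat.add_mul_mod_self_left, Nat.mul_add_mod] using this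
    exact hzK ((Nat.modEq_iff_dvd' (by norm_num)).1 h6)
  set a := y / x * c with ha
  have hyx : (y / x) ^ q = y / x := by rw [div_pow, hyK, hxK]
  have hmz : mu q ((w : F) ^ (2 * q + 1)) = z := by
    rw [mu_apply, ← pow_mul, hz]
    have e' : (2 * q + 1) * (2 * q - 1) = (q + 1) * (q - 1) * 4 + 3 := by
      obtain ⟨r, hr⟩ : ∃ r, q = r + 1 := ⟨q - 1, by omega⟩
      rw [hr, Nat.add_sub_cancel, show 2 * (r + 1) - 1 = 2 * r + 1 by omega]
      ring
    rw [e', pow_add, pow_mul, (gen_pow_eq_one hw hF _).2 dvd_rfl, one_pow, one_mul]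
  have hrange : ∀ k t : F, k ≠ 0 → k ^ q = k → t ≠ 0 → ∃ j : ℕ, mu q ((w : F) ^ j) = k * mu q t := by
    intro k t hk0 hk ht
    obtain ⟨j, hj⟩ := mem_powers_iff_mem_zpowers.2 (hw (Units.mk0 (k * t) (mul_ne_zero hk0 ht)))
    refine ⟨j, ?_⟩
    rw [← Units.val_pow_eq_pow_val, show w ^ j = _ from hj, Units.val_mk0, map_mul, mu_fixed hF hk]
  obtain ⟨k, hk⟩ := hrange (y / x) _ (div_ne_zero hy0 hx0) hyx (pow_ne_zero (q - 1) w.ne_zero)
  obtain ⟨b, hb⟩ := hrange x⁻¹ _ (inv_ne_zero hx0) (by rw [inv_pow, hxK]) (pow_ne_zero (2 * q + 1) w.ne_zero)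
  rw [← hc, ← ha] at hk
  refine ⟨k, b, ?_, ?_⟩
  · rw [hk]
    refine aeval_surjective hq hF a (fun h => hcK ?_) fun d hd hd1 hd3 h => (hsub d hd hd1 hd3).2 ?_
    · rw [ha, mul_pow, hyx] at h
      exact mul_left_cancel₀ (div_ne_zero hy0 hx0) h
    · have e : a ^ (q - 1) = c ^ (q - 1) := by
        rw [ha, mul_pow, pow_sub_one_eq_one (div_ne_zero hy0 hx0) h1.le hyx, one_mul]
      rw [← e, ← pow_mul, mul_comm, pow_mul, h]
  · rw [hb, hmz, hk, ha]
    field_simp
    linear_combination -hx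

/-- The remaining fields: the image of the generator already generates. -/
theorem exists_gen_small {p e : ℕ} [Fact p.Prime] [Algebra (ZMod p) F] (hq : q = p ^ e)
    (hF : Fintype.card F = q ^ 2) (hs : q = 5 ∨ q = 8) :
    Function.Surjective (aeval (mu q (w : F)) : (ZMod p)[X] → F) := by
  have hp : p.Prime := Fact.out
  have h0 : (w : F) ^ (2 * q - 1) ≠ 0 := pow_ne_zero _ w.ne_zero
  refine aeval_surjective hq hF _ (fun h => ?_) fun d hd hd1 hd3 h => ?_
  · rw [mu_apply, gen_fixed hw hF] at h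
    rcases hs with rfl | rfl <;> norm_num at h
  · have h' := pow_sub_one_eq_one h0 (Nat.one_le_pow _ _ hp.pos) (by rwa [mu_apply] at h)
    rw [← pow_mul, gen_pow_eq_one hw hF] at h'
    have hP : 2 ≤ p ^ d := le_trans hp.two_le (Nat.le_self_pow (by omega) p)
    have hq3 : (p ^ d) ^ 3 ≤ q := by
      rw [hq, ← pow_mul]; exact Nat.pow_le_pow_right hp.pos (by omega)
    have hp2 : p ^ d = 2 := by
      by_contra hne
      have h27 : 3 ^ 3 ≤ (p ^ d) ^ 3 := Nat.pow_le_pow_left (by omega) 3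
      omega
    have hpd : p ^ (2 * d) = 4 := by rw [mul_comm, pow_mul, hp2]; norm_num
    rw [hpd] at h'
    rcases hs with rfl | rfl <;> norm_num at h'

end Cfsg.Agent.Lib.ShortPresSU3
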