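import Mathlib
import Cfsg.Prelude.Def_Classical
import Cfsg.Agent.Lib.Unitary.Generation
import Cfsg.Agent.Lib.ShortPresSU3.Arith

/-!
# Short presentations of `SU₃`, part 2: the group in a hyperbolic basis
-/

set_option autoImplicit false
set_option linter.unusedSectionVars false

namespace Cfsg.Agent.Lib.ShortPresSU3

open Matrix Cfsg.Agent.Lib.Unitary

variable {F : Type*} [Field F] [Fintype F] {q : ℕ}

/-- The Hermitian form of a hyperbolic basis `e, x, f`. -/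
def hf (q : ℕ) (u v : Fin 3 → F) : F := u 0 * v 2 ^ q + u 1 * v 1 ^ q + u 2 * v 0 ^ q

/-- `SU₃` in a hyperbolic basis. -/
def H3 (F : Type*) [Field F] (q : ℕ) : Subgroup (Matrix.SpecialLinearGroup (Fin 3) F) :=
  Cfsg.preserving (Cfsg.slToMat 3 F) (hf q)

theorem mem_H3 {g : Matrix.SpecialLinearGroup (Fin 3) F} :
    g ∈ H3 F q ↔ ∀ u v, hf q (g.1 *ᵥ u) (g.1 *ᵥ v) = hf q u v := Iff.rfl

theorem H3_ext {g g' : H3 F q} (h : g.1.1 = g'.1.1) : g = g' := Subtype.ext (Subtype.ext h)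

theorem H3_coe_mul (g g' : H3 F q) : (g * g').1.1 = g.1.1 * g'.1.1 := rfl

theorem H3_coe_one : (1 : H3 F q).1.1 = 1 := rfl

theorem exists_equiv (hF : Fintype.card F = q ^ 2) : Nonempty (H3 F q ≃* Cfsg.SU 3 F q) := by
  obtain ⟨e, f, he⟩ := exists_hyp_any (n := 3) hF (by norm_num)
  obtain ⟨g, hg, ho, -⟩ := he.exists_complement hF
  obtain ⟨x, hxx, hxe, hxf⟩ : ∃ x, hermForm 3 F q x x = 1 ∧ hermForm 3 F q x e = 0 ∧
      hermForm 3 F q x f = 0 :=
    ⟨g ⟨0, by norm_num⟩, by simpa using hg ⟨0, by norm_num⟩ ⟨0, by norm_num⟩, ho _⟩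
  set P : Matrix (Fin 3) (Fin 3) F := (Matrix.of ![e, x, f])ᵀ with hP
  have hPv : ∀ v : Fin 3 → F, P *ᵥ v = v 0 • e + v 1 • x + v 2 • f := fun v => by
    funext i
    simp [hP, Matrix.mulVec, dotProduct, Fin.sum_univ_three, mul_comm]
  have hform : ∀ u v, hermForm 3 F q (P *ᵥ u) (P *ᵥ v) = hf q u v := fun u v => by
    simp only [hPv, hf, herm_add_left, herm_add_right _ _ _ hF, herm_smul_left, herm_smul_right, he.1,
      he.2.1, he.2.2, he.symm' hF, hxx, hxe, hxf, herm_eq_zero_symm hF hxe, herm_eq_zero_symm hF hxf]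
    ring
  have hdet : P.det ≠ 0 := by
    intro h
    obtain ⟨v, hv0, hv⟩ := Matrix.exists_mulVec_eq_zero_iff.mpr h
    refine hv0 (funext fun i => ?_)
    have h0 := hform v ![0, 0, 1]
    have h1 := hform v ![0, 1, 0]
    have h2 := hform v ![1, 0, 0]
    rw [hv, herm_zero_left] at h0 h1 h2
    fin_cases i
    · simpa [hf, zero_pow_q hF] using h0.symm
    · simpa [hf, zero_pow_q hF] using h1.symm
    · simpa [hf, zero_pow_q hF] using h2.symm
  have hu : IsUnit P.det := isUnit_iff_ne_zero.2 hdet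
  let φ : Matrix.SpecialLinearGroup (Fin 3) F ≃* Matrix.SpecialLinearGroup (Fin 3) F :=
    { toFun := fun M => ⟨P * M.1 * P⁻¹, by
        rw [det_mul, det_mul, M.2, mul_one, det_nonsing_inv, Ring.mul_inverse_cancel _ hu]⟩
      invFun := fun M => ⟨P⁻¹ * M.1 * P, by
        rw [det_mul, det_mul, M.2, mul_one, det_nonsing_inv, Ring.inverse_mul_cancel _ hu]⟩
      left_inv := fun M => Subtype.ext (by
        show P⁻¹ * (P * M.1 * P⁻¹) * P = M.1
        rw [← mul_assoc, ← mul_assoc, nonsing_inv_mul _ hu, one_mul, mul_assoc, nonsing_inv_mul _ hu,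
          mul_one])
      right_inv := fun M => Subtype.ext (by
        show P * (P⁻¹ * M.1 * P) * P⁻¹ = M.1
        rw [← mul_assoc, ← mul_assoc, mul_nonsing_inv _ hu, one_mul, mul_assoc, mul_nonsing_inv _ hu,
          mul_one])
      map_mul' := fun M N => Subtype.ext (by
        show P * (M.1 * N.1) * P⁻¹ = P * M.1 * P⁻¹ * (P * N.1 * P⁻¹)
        rw [show P * M.1 * P⁻¹ * (P * N.1 * P⁻¹) = P * M.1 * (P⁻¹ * P) * N.1 * P⁻¹ by
          simp only [mul_assoc], nonsing_inv_mul _ hu, mul_one]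
        simp only [mul_assoc]) }
  refine ⟨((H3 F q).equivMapOfInjective φ.toMonoidHom φ.injective).trans (MulEquiv.subgroupCongr ?_)⟩
  ext M
  constructor
  · rintro ⟨N, hN, rfl⟩
    intro u v
    show hermForm 3 F q ((P * N.1 * P⁻¹) *ᵥ u) ((P * N.1 * P⁻¹) *ᵥ v) = _
    rw [← mulVec_mulVec, ← mulVec_mulVec, ← mulVec_mulVec, ← mulVec_mulVec, hform, mem_H3.1 hN, ← hform,
      mulVec_mulVec, mulVec_mulVec, mul_nonsing_inv _ hu, one_mulVec, one_mulVec]
  · intro hM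
    refine ⟨φ.symm M, mem_H3.2 fun u v => ?_, φ.apply_symm_apply M⟩
    show hf q ((P⁻¹ * M.1 * P) *ᵥ u) ((P⁻¹ * M.1 * P) *ᵥ v) = _
    rw [← hform, mulVec_mulVec, mulVec_mulVec, ← mul_assoc, ← mul_assoc, mul_nonsing_inv _ hu, one_mul,
      ← mulVec_mulVec, ← mulVec_mulVec]
    exact (hM _ _).trans (hform u v)

variable (hF : Fintype.card F = q ^ 2)

/-- The unipotent elements. -/
def U3 (a b : F) (h : b + b ^ q + a * a ^ q = 0) : H3 F q :=
  ⟨⟨!![1, -(a ^ q), b; 0, 1, a; 0, 0, 1], by simp [det_fin_three]⟩, mem_H3.2 fun u v => by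
    simp only [hf, Matrix.mulVec, dotProduct, Fin.sum_univ_three]
    simp [add_pow_q hF, mul_pow, neg_pow_q hF, pow_q_q hF]
    linear_combination (u 2 * v 2 ^ q) * h⟩

theorem U3_coe (a b : F) (h : b + b ^ q + a * a ^ q = 0) :
    (U3 hF a b h).1.1 = !![1, -(a ^ q), b; 0, 1, a; 0, 0, 1] := rfl

theorem U3_congr {a b a' b' : F} (h : b + b ^ q + a * a ^ q = 0) (h' : b' + b' ^ q + a' * a' ^ q = 0)
    (ha : a = a') (hb : b = b') : U3 hF a b h = U3 hF a' b' h' := by subst ha hb; rfl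

include hF in
theorem U3_mul_cond {a b c d : F} (h : b + b ^ q + a * a ^ q = 0) (h' : d + d ^ q + c * c ^ q = 0) :
    (b + d - a ^ q * c) + (b + d - a ^ q * c) ^ q + (a + c) * (a + c) ^ q = 0 := by
  rw [sub_pow_q hF, add_pow_q hF, add_pow_q hF, mul_pow, pow_q_q hF]
  linear_combination h + h'

theorem U3_mul {a b c d : F} (h : b + b ^ q + a * a ^ q = 0) (h' : d + d ^ q + c * c ^ q = 0) :
    U3 hF a b h * U3 hF c d h' = U3 hF (a + c) (b + d - a ^ q * c) (U3_mul_cond hF h h') := by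
  refine H3_ext ?_
  rw [H3_coe_mul, U3_coe, U3_coe, U3_coe]
  ext i j
  fin_cases i <;> fin_cases j <;>
    simp [Matrix.mul_apply, Fin.sum_univ_three, add_pow_q hF] <;> ring

include hF in
theorem U3_zero_cond {c : F} (h : c + c ^ q = 0) : c + c ^ q + (0 : F) * (0 : F) ^ q = 0 := by
  rw [zero_mul, add_zero, h]

theorem U3_eq_one {a b : F} (h : b + b ^ q + a * a ^ q = 0) (hb : b = 0) : U3 hF a b h = 1 := by
  subst hb
  rw [zero_pow_q hF, add_zero, zero_add, mul_eq_zero, pow_eq_zero_iff (q_ne_zero hF), or_self] at h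
  subst h
  refine H3_ext ?_
  rw [U3_coe, H3_coe_one]
  ext i j
  fin_cases i <;> fin_cases j <;> simp [zero_pow_q hF]

/-- The torus. -/
def T3 : Fˣ →* H3 F q :=
  MonoidHom.mk' (fun l => ⟨⟨!![(l : F), 0, 0; 0, (l : F) ^ q / l, 0; 0, 0, ((l : F) ^ q)⁻¹], by
      simp [det_fin_three]; field_simp⟩, mem_H3.2 fun u v => by
      have hl := l.ne_zero
      simp only [hf, Matrix.mulVec, dotProduct, Fin.sum_univ_three]
      simp [mul_pow, div_pow, inv_pow, pow_q_q hF]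
      field_simp⟩) fun l m => by
    refine H3_ext ?_
    rw [H3_coe_mul]
    ext i j
    fin_cases i <;> fin_cases j <;> simp [Matrix.mul_apply, Fin.sum_univ_three, mul_pow] <;> ring

theorem T3_coe (l : Fˣ) :
    (T3 hF l).1.1 = !![(l : F), 0, 0; 0, (l : F) ^ q / l, 0; 0, 0, ((l : F) ^ q)⁻¹] := rfl

include hF in
theorem T3_conj_cond (l : Fˣ) {a b : F} (h : b + b ^ q + a * a ^ q = 0) :
    (l : F) * (l : F) ^ q * b + ((l : F) * (l : F) ^ q * b) ^ q + mu q (l : F) * a * (mu q (l : F) * a) ^ q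
      = 0 := by
  rw [mul_pow, mul_pow, mul_pow, pow_q_q hF]
  linear_combination ((l : F) * (l : F) ^ q) * h + (a * a ^ q) * norm_mu hF (l : F)

theorem T3_conj (l : Fˣ) {a b : F} (h : b + b ^ q + a * a ^ q = 0) :
    T3 hF l * U3 hF a b h * (T3 hF l)⁻¹ =
      U3 hF (mu q (l : F) * a) ((l : F) * (l : F) ^ q * b) (T3_conj_cond hF l h) := by
  rw [mul_inv_eq_iff_eq_mul]
  refine H3_ext ?_
  rw [H3_coe_mul, H3_coe_mul, U3_coe, U3_coe, T3_coe, mu_eq hF l.ne_zero]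
  have hl := l.ne_zero
  ext i j
  fin_cases i <;> fin_cases j <;>
    simp [Matrix.mul_apply, Fin.sum_univ_three, mul_pow, div_pow, pow_q_q hF] <;> field_simp

variable {δ : F} (hδ : δ ^ q = -δ) (hδ0 : δ ≠ 0)

/-- The Weyl element. -/
def W3 : H3 F q :=
  ⟨⟨!![0, 0, δ; 0, 1, 0; -δ⁻¹, 0, 0], by simp [det_fin_three, hδ0]⟩, mem_H3.2 fun u v => by
    simp only [hf, Matrix.mulVec, dotProduct, Fin.sum_univ_three]
    simp [mul_pow, neg_pow_q hF, inv_pow, hδ]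
    field_simp
    ring⟩

theorem W3_coe : (W3 hF hδ hδ0).1.1 = !![0, 0, δ; 0, 1, 0; -δ⁻¹, 0, 0] := rfl

theorem W3_sq : W3 hF hδ hδ0 * W3 hF hδ hδ0 = T3 hF (-1) := by
  refine H3_ext ?_
  rw [H3_coe_mul, W3_coe, T3_coe]
  ext i j
  fin_cases i <;> fin_cases j <;> simp [Matrix.mul_apply, Fin.sum_univ_three, hδ0, neg_pow_q hF]

theorem W3_T3 (l : Fˣ) : W3 hF hδ hδ0 * T3 hF l * (W3 hF hδ hδ0)⁻¹ = T3 hF (l ^ q)⁻¹ := by
  rw [mul_inv_eq_iff_eq_mul]
  refine H3_ext ?_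
  rw [H3_coe_mul, H3_coe_mul, W3_coe, T3_coe, T3_coe]
  have hl := l.ne_zero
  ext i j
  fin_cases i <;> fin_cases j <;>
    simp [Matrix.mul_apply, Fin.sum_univ_three, pow_q_q hF, inv_pow, Units.val_inv_eq_inv_val] <;>
    field_simp

include hF hδ in
theorem fe_cond_left {a b : F} (h : b + b ^ q + a * a ^ q = 0) (hb : b ≠ 0) :
    -δ ^ 2 / b + (-δ ^ 2 / b) ^ q + (-(a * δ) / b) * (-(a * δ) / b) ^ q = 0 := by
  have hbq : b ^ q ≠ 0 := pow_ne_zero q hb
  rw [div_pow, div_pow, neg_pow_q hF, neg_pow_q hF, mul_pow, ← pow_mul, mul_comm 2 q, pow_mul, hδ]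
  field_simp
  linear_combination (-δ ^ 2) * h

include hF hδ in
theorem fe_cond_right {a b : F} (h : b + b ^ q + a * a ^ q = 0) (hb : b ≠ 0) :
    -δ ^ 2 / b + (-δ ^ 2 / b) ^ q + (-(a * δ) / b ^ q) * (-(a * δ) / b ^ q) ^ q = 0 := by
  have hbq : b ^ q ≠ 0 := pow_ne_zero q hb
  rw [div_pow, div_pow, neg_pow_q hF, neg_pow_q hF, mul_pow, ← pow_mul δ, mul_comm 2 q, pow_mul δ, hδ,
    pow_q_q hF]
  field_simp
  linear_combination (-δ ^ 2) * h

theorem fe {a b : F} (h : b + b ^ q + a * a ^ q = 0) (hb : b ≠ 0) :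
    W3 hF hδ hδ0 * U3 hF a b h * (W3 hF hδ hδ0)⁻¹ =
      U3 hF (-(a * δ) / b) (-δ ^ 2 / b) (fe_cond_left hF hδ h hb) *
        T3 hF (Units.mk0 (-δ / b ^ q) (div_ne_zero (neg_ne_zero.2 hδ0) (pow_ne_zero q hb))) *
        W3 hF hδ hδ0 * U3 hF (-(a * δ) / b ^ q) (-δ ^ 2 / b) (fe_cond_right hF hδ h hb) := by
  rw [mul_inv_eq_iff_eq_mul]
  refine H3_ext ?_
  simp only [H3_coe_mul, W3_coe, U3_coe, T3_coe, Units.val_mk0]
  have hbq : b ^ q ≠ 0 := pow_ne_zero q hb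
  have haa : a * a ^ q = -b - b ^ q := by linear_combination h
  ext i j
  fin_cases i <;> fin_cases j <;>
    simp [Matrix.mul_apply, Fin.sum_univ_three, div_pow, mul_pow, neg_pow_q hF, hδ, pow_q_q hF] <;>
    field_simp <;>
    first
      | ring1
      | linear_combination haa
      | linear_combination -haa
      | linear_combination δ * haa
      | linear_combination -δ * haa
      | linear_combination δ ^ 2 * haa
      | linear_combination -δ ^ 2 * haa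
      | (left; ring1)
      | (left; linear_combination δ ^ 2 * haa)
      | (left; linear_combination -δ ^ 2 * haa)

include hF in
theorem upper_of_entry {g : H3 F q} (h20 : g.1.1 2 0 = 0) :
    g.1.1 1 0 = 0 ∧ g.1.1 2 1 = 0 ∧ g.1.1 0 0 ≠ 0 := by
  have hg := mem_H3.1 g.2
  have h00 := hg ![1, 0, 0] ![1, 0, 0]
  have h01 := hg ![1, 0, 0] ![0, 1, 0]
  simp [hf, Matrix.mulVec, dotProduct, Fin.sum_univ_three, h20, zero_pow_q hF] at h00 h01
  have h10 : g.1.1 1 0 = 0 := h00.elim id fun h => h.1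
  have hd := g.1.2
  rw [det_fin_three, h20, h10] at hd
  have hne : g.1.1 0 0 ≠ 0 := fun h => by rw [h] at hd; simp at hd
  rw [h10, zero_mul, add_zero, mul_eq_zero, pow_eq_zero_iff (q_ne_zero hF)] at h01
  exact ⟨h10, h01.resolve_left hne, hne⟩

/-- The Borel subgroup. -/
def Bor : Subgroup (H3 F q) where
  carrier := {g | g.1.1 2 0 = 0}
  one_mem' := by simp [H3_coe_one]
  mul_mem' {g g'} hg hg' := by
    obtain ⟨h10, -, -⟩ := upper_of_entry hF hg'
    obtain ⟨-, -, -⟩ := upper_of_entry hF hg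
    show (g * g').1.1 2 0 = 0
    rw [H3_coe_mul, Matrix.mul_apply, Fin.sum_univ_three, show g.1.1 2 0 = 0 from hg, h10,
      show g'.1.1 2 0 = 0 from hg']
    ring
  inv_mem' {g} hg := by
    obtain ⟨h10, -, hne⟩ := upper_of_entry hF hg
    have h := congrFun (congrFun (congrArg (fun y : H3 F q => y.1.1) (inv_mul_cancel g)) 2) 0
    simp only [H3_coe_mul, H3_coe_one, Matrix.mul_apply, Fin.sum_univ_three, h10,
      show g.1.1 2 0 = 0 from hg, mul_zero, add_zero] at h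
    simpa [hne] using h

theorem mem_Bor {g : H3 F q} : g ∈ Bor hF ↔ g.1.1 2 0 = 0 := Iff.rfl

theorem U3_mem {a b : F} (h : b + b ^ q + a * a ^ q = 0) : U3 hF a b h ∈ Bor hF := by
  rw [mem_Bor, U3_coe]; simp

theorem T3_mem (l : Fˣ) : T3 hF l ∈ Bor hF := by rw [mem_Bor, T3_coe]; simp

theorem W3_not_mem : W3 hF hδ hδ0 ∉ Bor hF := by
  rw [mem_Bor, W3_coe]; simp [hδ0]

theorem exists_bor {g : H3 F q} (hg : g ∈ Bor hF) :
    ∃ (a b : F) (h : b + b ^ q + a * a ^ q = 0) (l : Fˣ), g = U3 hF a b h * T3 hF l := by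
  obtain ⟨h10, h21, hne⟩ := upper_of_entry hF hg
  have h20 : g.1.1 2 0 = 0 := hg
  have hp := mem_H3.1 g.2
  have e02 := hp ![1, 0, 0] ![0, 0, 1]
  have e12 := hp ![0, 1, 0] ![0, 0, 1]
  have e22 := hp ![0, 0, 1] ![0, 0, 1]
  simp [hf, Matrix.mulVec, dotProduct, Fin.sum_univ_three, h20, h10, h21, zero_pow_q hF] at e02 e12 e22
  have hd := g.1.2
  rw [det_fin_three, h20, h10, h21] at hd
  have h22 : g.1.1 2 2 ^ q ≠ 0 := fun h => by rw [h, mul_zero] at e02; exact zero_ne_one e02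
  have h22' : g.1.1 2 2 ≠ 0 := fun h => h22 (by rw [h, zero_pow_q hF])
  have hlq : g.1.1 0 0 ^ q * g.1.1 2 2 = 1 := by
    have := congrArg (· ^ q) e02
    simpa [mul_pow, pow_q_q hF] using this
  have h11 : g.1.1 1 1 * g.1.1 0 0 = g.1.1 0 0 ^ q := by
    refine mul_right_cancel₀ h22' ?_
    rw [hlq]
    linear_combination hd
  refine ⟨g.1.1 1 2 / g.1.1 2 2, g.1.1 0 2 / g.1.1 2 2, ?_, Units.mk0 _ hne, ?_⟩
  · rw [div_pow, div_pow]
    field_simp
    linear_combination e22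
  · refine H3_ext ?_
    rw [H3_coe_mul, U3_coe, T3_coe, Units.val_mk0]
    have hinv : (g.1.1 0 0 ^ q)⁻¹ = g.1.1 2 2 := inv_eq_of_mul_eq_one_right hlq
    have h01 : g.1.1 0 1 * g.1.1 2 2 ^ q = -(g.1.1 1 1 * g.1.1 1 2 ^ q) := by linear_combination e12
    have hdiv : g.1.1 0 0 ^ q / g.1.1 0 0 = g.1.1 1 1 := by rw [← h11, mul_div_cancel_right₀ _ hne]
    rw [hinv, hdiv]
    ext i j
    fin_cases i <;> fin_cases j <;>
      simp [Matrix.mul_apply, Fin.sum_univ_three, h10, h20, h21, div_pow] <;> field_simp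
    linear_combination h01

/-- The Bruhat decomposition. -/
theorem exists_cell (g : H3 F q) :
    g ∈ Bor hF ∨ ∃ y₁ ∈ Bor hF, ∃ y₂ ∈ Bor hF, g = y₁ * W3 hF hδ hδ0 * y₂ := by
  by_cases h20 : g.1.1 2 0 = 0
  · exact Or.inl h20
  refine Or.inr ?_
  have e00 := mem_H3.1 g.2 ![1, 0, 0] ![1, 0, 0]
  simp [hf, Matrix.mulVec, dotProduct, Fin.sum_univ_three, zero_pow_q hF] at e00
  have hbq : g.1.1 2 0 ^ q ≠ 0 := pow_ne_zero q h20
  have h : g.1.1 0 0 / g.1.1 2 0 + (g.1.1 0 0 / g.1.1 2 0) ^ q +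
      g.1.1 1 0 / g.1.1 2 0 * (g.1.1 1 0 / g.1.1 2 0) ^ q = 0 := by
    rw [div_pow, div_pow]
    field_simp
    linear_combination e00
  refine ⟨U3 hF _ _ h, U3_mem hF h, (U3 hF _ _ h * W3 hF hδ hδ0)⁻¹ * g, ?_, by group⟩
  rw [mem_Bor]
  obtain ⟨z, hz⟩ : ∃ z, (U3 hF _ _ h * W3 hF hδ hδ0)⁻¹ * g = z := ⟨_, rfl⟩
  rw [hz]
  have hg : g.1.1 = (U3 hF _ _ h * W3 hF hδ hδ0).1.1 * z.1.1 := by
    rw [← H3_coe_mul, ← hz, mul_inv_cancel_left]
  have c0 := congrFun (congrFun hg 0) 0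
  have c1 := congrFun (congrFun hg 1) 0
  have c2 := congrFun (congrFun hg 2) 0
  simp [H3_coe_mul, U3_coe, W3_coe, Matrix.mul_apply, Fin.sum_univ_three] at c0 c1 c2
  have hz0 : z.1.1 0 0 = -(δ * g.1.1 2 0) := by rw [c2]; field_simp
  rw [hz0] at c0 c1
  field_simp at c0 c1
  have hz1 : z.1.1 1 0 = 0 := by linear_combination -c1
  rw [hz1] at c0
  exact mul_left_cancel₀ hδ0 (by linear_combination -c0)

theorem bottom_row {y : H3 F q} (hy : y ∈ Bor hF) {a b : F} (h : b + b ^ q + a * a ^ q = 0) :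
    let g := y * W3 hF hδ hδ0 * U3 hF a b h
    g.1.1 2 0 ≠ 0 ∧ g.1.1 2 1 = g.1.1 2 0 * -(a ^ q) ∧ g.1.1 2 2 = g.1.1 2 0 * b := by
  intro g
  obtain ⟨h10, h21, -⟩ := upper_of_entry hF hy
  have h20 : y.1.1 2 0 = 0 := hy
  have hd := y.1.2
  rw [det_fin_three, h20, h10, h21] at hd
  have h22 : y.1.1 2 2 ≠ 0 := fun h => by rw [h] at hd; simp at hd
  simp only [g, H3_coe_mul, U3_coe, W3_coe, Matrix.mul_apply, Fin.sum_univ_three]
  simp [h20, h21, h22, hδ0]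

/-- A word in the big cell determines its unipotent factor. -/
theorem cell_unique {y y' : H3 F q} (hy : y ∈ Bor hF) (hy' : y' ∈ Bor hF) {a b a' b' : F}
    {h : b + b ^ q + a * a ^ q = 0} {h' : b' + b' ^ q + a' * a' ^ q = 0}
    (e : y * W3 hF hδ hδ0 * U3 hF a b h = y' * W3 hF hδ hδ0 * U3 hF a' b' h') : a = a' ∧ b = b' := by
  have r := bottom_row hF hδ hδ0 hy h
  have r' := bottom_row hF hδ hδ0 hy' h'
  simp only [← e] at r'
  obtain ⟨hne, h1, h2⟩ := r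
  obtain ⟨-, h1', h2'⟩ := r'
  exact ⟨pow_q_injective hF (neg_inj.1 (mul_left_cancel₀ hne (h1.symm.trans h1'))),
    mul_left_cancel₀ hne (h2.symm.trans h2')⟩

end Cfsg.Agent.Lib.ShortPresSU3
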