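import Cfsg.Agent.Lib.ShortPresSU3.Long

/-!
# Short presentations of `SU₃`, part 4: the criterion

A group with a torus, one unipotent element, the long root `SL₂(q)` and three further relations of
Bruhat type maps isomorphically onto `SU₃(q)`.  The relations of Bruhat type for `(a, t N(a))` spread
from one value `t = r` to all values: multiplying the one for `(a, r N(a))` with a long one relates
the value `t` to `r̄ t / (t - r)`, and in the coordinate `t / (t + 1)` this is multiplication by a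
generator of the norm one group.
-/

set_option autoImplicit false
set_option linter.unusedSectionVars false

namespace Cfsg.Agent.Lib.ShortPresSU3

open Matrix Cfsg.Agent.Lib.Unitary Subgroup
open ShortPresSL2 (matU matD matT polyWord)

variable {F : Type*} [Field F] [Fintype F] {q : ℕ} {G : Type*} [Group G]

section defs

variable {k : Type*} [Field k]

/-- The Borel subgroup of the group on generators. -/
def borG (χ : Matrix.SpecialLinearGroup (Fin 2) k →* G) (u h : G) : Subgroup G :=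
  Subgroup.closure ({u, h} ∪ Set.range fun t => χ (matU t))

/-- The long root subgroup. -/
def longG (χ : Matrix.SpecialLinearGroup (Fin 2) k →* G) : Subgroup G :=
  (χ.comp ShortPresSL2.homU).range

/-- The big cell. -/
def CellG (χ : Matrix.SpecialLinearGroup (Fin 2) k →* G) (u h g : G) : Prop :=
  ∃ y₁ ∈ borG χ u h, ∃ y₂ ∈ borG χ u h, g = y₁ * χ matT * y₂

end defs

/-- The data and relations. -/
structure SU3Data (hF : Fintype.card F = q ^ 2) {δ : F} (hδ : δ ^ q = -δ) (hδ0 : δ ≠ 0)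
    (p : ℕ) [Fact p.Prime] [Algebra (ZMod p) F] (G : Type*) [Group G] where
  π : G →* H3 F q
  χ : Matrix.SpecialLinearGroup (Fin 2) (Kf hF) →* G
  u : G
  h : G
  a₀ : F
  b₀ : F
  hab : b₀ + b₀ ^ q + a₀ * a₀ ^ q = 0
  ha₀ : a₀ ≠ 0
  ω : Fˣ
  hω : ∀ x : Fˣ, x ∈ Subgroup.zpowers ω
  ν : (Kf hF)ˣ
  hν : kUnit hF ν = ω ^ (q + 1)
  k : ℕ
  Pc : Polynomial (ZMod p)
  hPc : Polynomial.aeval (mu q ((ω : F) ^ k)) Pc = mu q (ω : F)
  hsurj : Function.Surjective
    (Polynomial.aeval (mu q ((ω : F) ^ k)) : Polynomial (ZMod p) → F)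
  r : F
  hr : r + r ^ q = -1
  hξ : r / (r + 1) = (ω : F) ^ (q - 1)
  πχ : ∀ g, π (χ g) = iota hF hδ hδ0 g
  πu : π u = U3 hF a₀ b₀ hab
  πh : π h = T3 hF ω
  rel_D : χ (matD ν) = h ^ (q + 1)
  rel_wh : χ matT * h * (χ matT)⁻¹ = (h ^ q)⁻¹
  rel_hz : h * χ (matU 1) * h⁻¹ = χ (matU (ν : Kf hF))
  rel_uz : ∀ t, Commute u (χ (matU t))
  rel_up : u ^ p ∈ longG χ
  rel_comm : ∀ n : ℕ, (h ^ k) ^ n * u * ((h ^ k) ^ n)⁻¹ * u * (u * ((h ^ k) ^ n * u * ((h ^ k) ^ n)⁻¹))⁻¹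
    ∈ longG χ
  rel_min : polyWord u (h ^ k) (minpoly (ZMod p) (mu q ((ω : F) ^ k))) ∈ longG χ
  rel_c : h * u * h⁻¹ * (polyWord u (h ^ k) Pc)⁻¹ ∈ longG χ
  rel_orb : ∀ i : ℕ, i < 3 → ∃ x ∈ borG χ u h,
    (∃ e, π x = U3 hF ((ω : F) ^ i) (r * ((ω : F) ^ i * ((ω : F) ^ i) ^ q)) e) ∧
      CellG χ u h (χ matT * x * (χ matT)⁻¹)
  hgen : Subgroup.closure ({u, h, χ matT} : Set G) = ⊤

theorem exists_sq_add_sq {K : Type*} [Field K] [Fintype K] (t : K) : ∃ a b : K, a ^ 2 + b ^ 2 = t := by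
  by_cases h2 : ringChar K = 2
  · obtain ⟨r, hr⟩ := FiniteField.isSquare_of_char_two h2 t
    exact ⟨r, 0, by rw [hr]; ring⟩
  obtain ⟨a, b, h⟩ := FiniteField.exists_root_sum_quadratic (R := K) (f := Polynomial.X ^ 2)
    (g := Polynomial.X ^ 2 - Polynomial.C t) (by simp)
    (Polynomial.degree_X_pow_sub_C (by norm_num) t) (FiniteField.odd_card_of_char_ne_two h2)
  simp at h
  exact ⟨a, b, by linear_combination h⟩

namespace SU3Data

variable {hF : Fintype.card F = q ^ 2} {δ : F} {hδ : δ ^ q = -δ} {hδ0 : δ ≠ 0}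
  {p : ℕ} [hp : Fact p.Prime] [Algebra (ZMod p) F] (D : SU3Data hF hδ hδ0 p G)

/-- The Weyl element. -/
def w : G := D.χ matT

/-- The Borel subgroup. -/
def B : Subgroup G := borG D.χ D.u D.h

theorem pw : D.π D.w = W3 hF hδ hδ0 := by rw [w, D.πχ, iota_matT]

theorem u_mem : D.u ∈ D.B := subset_closure (Or.inl (Or.inl rfl))

theorem h_mem : D.h ∈ D.B := subset_closure (Or.inl (Or.inr rfl))

theorem U_mem (t : Kf hF) : D.χ (matU t) ∈ D.B := subset_closure (Or.inr ⟨t, rfl⟩)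

theorem long_le : longG D.χ ≤ D.B := by
  rintro _ ⟨t, rfl⟩
  exact D.U_mem t.toAdd

theorem mem_long (t : Kf hF) : D.χ (matU t) ∈ longG D.χ := ⟨.ofAdd t, rfl⟩

theorem h_conj_long (t : Kf hF) : D.h * D.χ (matU t) * D.h⁻¹ = D.χ (matU ((D.ν : Kf hF) * t)) := by
  obtain ⟨a, b, hab⟩ : ∃ a b : Kf hF, a ^ 2 + b ^ 2 = t := exists_sq_add_sq t
  have hsq : ∀ a : Kf hF, D.h * D.χ (matU (a ^ 2)) * D.h⁻¹ = D.χ (matU ((D.ν : Kf hF) * a ^ 2)) := by
    intro a
    rcases eq_or_ne a 0 with rfl | ha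
    · rw [zero_pow two_ne_zero, mul_zero, ShortPresSL2.matU_zero, map_one, mul_one, mul_inv_cancel]
    have hcl : ∃ i : ℕ, (D.ν ^ i : (Kf hF)ˣ) = Units.mk0 a ha := by
      obtain ⟨j, hj⟩ := mem_powers_iff_mem_zpowers.2 (D.hω (kUnit hF (Units.mk0 a ha)))
      have hj' : ((D.ω : F) ^ j) ^ q = (D.ω : F) ^ j := by
        rw [← Units.val_pow_eq_pow_val, show D.ω ^ j = _ from hj]
        exact Kf_fixed hF a
      obtain ⟨i, rfl⟩ := (gen_fixed D.hω hF j).1 hj'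
      refine ⟨i, ?_⟩
      have e : kUnit hF (D.ν ^ i) = kUnit hF (Units.mk0 a ha) := by
        rw [map_pow, D.hν, ← pow_mul]; exact hj
      exact Units.ext (Subtype.ext (congrArg Units.val e))
    obtain ⟨i, hi⟩ := hcl
    have ea : (matU (a ^ 2) : Matrix.SpecialLinearGroup (Fin 2) (Kf hF)) =
        matD (D.ν ^ i) * matU 1 * (matD (D.ν ^ i))⁻¹ := by
      rw [ShortPresSL2.matD_conj, hi, Units.val_mk0, mul_one]
    have eν : (matU ((D.ν : Kf hF) * a ^ 2) : Matrix.SpecialLinearGroup (Fin 2) (Kf hF)) =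
        matD (D.ν ^ i) * matU (D.ν : Kf hF) * (matD (D.ν ^ i))⁻¹ := by
      rw [ShortPresSL2.matD_conj, hi, Units.val_mk0, mul_comm]
    have hd : D.χ (matD (D.ν ^ i)) = (D.h ^ (q + 1)) ^ i := by
      rw [← ShortPresSL2.matD_pow, map_pow, D.rel_D]
    have hc : Commute D.h ((D.h ^ (q + 1)) ^ i) := ((Commute.refl D.h).pow_right _).pow_right _
    rw [ea, eν, map_mul, map_mul, map_mul, map_mul, map_inv, hd, ← D.rel_hz]
    calc _ = (D.h * (D.h ^ (q + 1)) ^ i) * D.χ (matU 1) * (D.h * (D.h ^ (q + 1)) ^ i)⁻¹ := by group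
      _ = _ := by rw [hc.eq]; group
  rw [← hab, mul_add, ShortPresSL2.matU_add, ShortPresSL2.matU_add, map_mul, map_mul, ← hsq, ← hsq]
  group

theorem h_pow_card : D.h ^ ((q + 1) * (q - 1)) = 1 := by
  have : D.ν ^ (q - 1) = 1 := by
    refine Units.ext (Subtype.ext (congrArg Units.val (?_ : kUnit hF (D.ν ^ (q - 1)) = 1)))
    rw [map_pow, D.hν, ← pow_mul, ← orderOf_gen D.hω hF, pow_orderOf_eq_one]
  rw [pow_mul, ← D.rel_D, ← map_pow, ShortPresSL2.matD_pow, this, ShortPresSL2.matD_one, map_one]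

theorem h_pow_eq_one {j : ℕ} (hj : (D.ω : F) ^ j = 1) : D.h ^ j = 1 := by
  obtain ⟨i, rfl⟩ := (gen_pow_eq_one D.hω hF j).1 hj
  rw [pow_mul, D.h_pow_card, one_pow]

include hF in
theorem one_le_card : 1 ≤ (q + 1) * (q - 1) := by
  have h2 := one_lt_q hF
  exact Nat.one_le_iff_ne_zero.2 (Nat.mul_ne_zero (by omega) (by omega))

instance long_normal : ((longG D.χ).subgroupOf D.B).Normal := by
  rw [Subgroup.normal_subgroupOf_iff_le_normalizer D.long_le, B, borG, closure_le]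
  have hfin : ∀ x : G, (∀ t : Kf hF, x * D.χ (matU t) * x⁻¹ ∈ longG D.χ) →
      x ∈ Subgroup.normalizer (longG D.χ : Set G) := by
    intro x hx
    haveI : Finite (longG D.χ) := Set.Finite.to_subtype (Set.finite_range _)
    refine Subgroup.mem_normalizer_fintype (fun y hy => ?_)
    obtain ⟨t, rfl⟩ := hy
    exact hx t.toAdd
  rintro x ((rfl | rfl) | ⟨t, rfl⟩)
  · exact hfin _ fun t => by rw [(D.rel_uz t).eq, mul_inv_cancel_right]; exact D.mem_long t
  · exact hfin _ fun t => by rw [D.h_conj_long]; exact D.mem_long _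
  · exact Subgroup.le_normalizer (D.mem_long t)

/-- The quotient by the long root subgroup. -/
abbrev Q := D.B ⧸ (longG D.χ).subgroupOf D.B

/-- The projection. -/
def pr : D.B →* D.Q := QuotientGroup.mk' _

theorem pr_eq_one {x : D.B} : D.pr x = 1 ↔ (x : G) ∈ longG D.χ := by
  rw [pr, QuotientGroup.mk'_apply, QuotientGroup.eq_one_iff]
  rfl

theorem π_mem {x : G} (hx : x ∈ D.B) : D.π x ∈ Bor hF := by
  have : D.B ≤ (Bor hF).comap D.π := by
    rw [B, borG, closure_le]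
    rintro y ((rfl | rfl) | ⟨t, rfl⟩)
    · show D.π D.u ∈ Bor hF; rw [D.πu]; exact U3_mem hF _
    · show D.π D.h ∈ Bor hF; rw [D.πh]; exact T3_mem hF _
    · show D.π (D.χ (matU t)) ∈ Bor hF; rw [D.πχ, iota_matU]; exact U3_mem hF _
  exact this hx

/-- The affine map of an element of the Borel subgroup. -/
def affM : Bor hF →* Function.End F where
  toFun g z := (g.1.1.1 1 1 * z + g.1.1.1 1 2) / g.1.1.1 2 2
  map_one' := by funext z; simp [H3_coe_one]; try rfl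
  map_mul' g g' := by
    funext z
    obtain ⟨h10, h21, -⟩ := upper_of_entry hF g.2
    obtain ⟨h10', h21', -⟩ := upper_of_entry hF g'.2
    have hd := g.1.1.2
    have hd' := g'.1.1.2
    rw [det_fin_three, show g.1.1.1 2 0 = 0 from g.2, h10, h21] at hd
    rw [det_fin_three, show g'.1.1.1 2 0 = 0 from g'.2, h10', h21'] at hd'
    have n : g.1.1.1 2 2 ≠ 0 := fun h => by rw [h] at hd; simp at hd
    have n' : g'.1.1.1 2 2 ≠ 0 := fun h => by rw [h] at hd'; simp at hd'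
    show _ = (g.1.1.1 1 1 * ((g'.1.1.1 1 1 * z + g'.1.1.1 1 2) / g'.1.1.1 2 2) + g.1.1.1 1 2) / g.1.1.1 2 2
    rw [show (g * g').1.1.1 = g.1.1.1 * g'.1.1.1 from rfl]
    simp only [Matrix.mul_apply, Fin.sum_univ_three]
    simp [h10, h21, h21', show g.1.1.1 2 0 = 0 from g.2]
    field_simp
    ring

/-- The affine map of an element of the Borel subgroup, invertible. -/
def aff : Bor hF →* (Function.End F)ˣ := (affM (hF := hF)).toHomUnits

theorem aff_apply (g : Bor hF) (z : F) :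
    (aff g).1 z = (g.1.1.1 1 1 * z + g.1.1.1 1 2) / g.1.1.1 2 2 := rfl

theorem aff_U3 {a b : F} (h : b + b ^ q + a * a ^ q = 0) (z : F) :
    (aff (hF := hF) ⟨U3 hF a b h, U3_mem hF h⟩).1 z = z + a := by
  rw [aff_apply, U3_coe]; simp

theorem aff_T3 (l : Fˣ) (z : F) :
    (aff (hF := hF) ⟨T3 hF l, T3_mem hF l⟩).1 z = mu q (l : F) * z := by
  rw [aff_apply, T3_coe, mu_eq hF l.ne_zero]
  simp
  field_simp

/-- The affine map of an element of the quotient. -/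
def affB : D.B →* (Function.End F)ˣ :=
  (aff (hF := hF)).comp ((D.π.comp D.B.subtype).codRestrict (Bor hF) fun x => D.π_mem x.2)

theorem affB_apply (x : D.B) : D.affB x = aff ⟨D.π x, D.π_mem x.2⟩ := rfl

theorem affB_long : (longG D.χ).subgroupOf D.B ≤ D.affB.ker := by
  rintro x ⟨t, ht⟩
  refine MonoidHom.mem_ker.2 (Units.ext (funext fun z => ?_))
  rw [affB_apply]
  have e : D.π x = U3 hF 0 (δ * ((t.toAdd : Kf hF) : F)) (long_cond hF hδ _) := by
    rw [show (x : G) = D.χ (matU t.toAdd) from ht.symm, D.πχ, iota_matU]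
  simp only [e]
  rw [aff_U3, add_zero]
  rfl

/-- The affine map on the quotient. -/
def affQ : D.Q →* (Function.End F)ˣ := QuotientGroup.lift _ D.affB D.affB_long

theorem affQ_pr (x : D.B) : D.affQ (D.pr x) = aff ⟨D.π x, D.π_mem x.2⟩ := rfl

theorem affQ_u (z : F) : (D.affQ (D.pr ⟨D.u, D.u_mem⟩)).1 z = z + D.a₀ := by
  rw [affQ_pr]
  simp only [D.πu]
  exact aff_U3 _ z

theorem affQ_h (z : F) : (D.affQ (D.pr ⟨D.h, D.h_mem⟩)).1 z = mu q (D.ω : F) * z := by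
  rw [affQ_pr]
  simp only [D.πh]
  exact aff_T3 _ z

/-- Translations. -/
def trans (F : Type*) [Field F] : Multiplicative F →* (Function.End F)ˣ :=
  MonoidHom.toHomUnits
    { toFun := fun x z => z + x.toAdd
      map_one' := funext fun z => add_zero z
      map_mul' := fun x y => funext fun z => by
        show z + (x.toAdd + y.toAdd) = z + y.toAdd + x.toAdd
        ring }

theorem trans_apply (x z : F) : (trans F (.ofAdd x)).1 z = z + x := rfl

/-- The unipotent elements modulo the long root subgroup. -/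
theorem exists_f : ∃ f : Multiplicative F →* D.Q, f (.ofAdd 1) = D.pr ⟨D.u, D.u_mem⟩ ∧
    (∀ x, D.pr ⟨D.h, D.h_mem⟩ * f (.ofAdd x) * (D.pr ⟨D.h, D.h_mem⟩)⁻¹ = f (.ofAdd (mu q (D.ω : F) * x))) ∧
    ∀ x z, (D.affQ (f (.ofAdd x))).1 z = z + x * D.a₀ := by
  set ub : D.Q := D.pr ⟨D.u, D.u_mem⟩ with hub
  set hb : D.Q := D.pr ⟨D.h, D.h_mem⟩ with hhb
  set α := mu q ((D.ω : F) ^ D.k) with hα
  have hpoly : ∀ P : Polynomial (ZMod p), polyWord ub (hb ^ D.k) P =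
      D.pr ⟨polyWord D.u (D.h ^ D.k) P, ShortPresSL2.polyWord_mem D.u_mem (pow_mem D.h_mem _) P⟩ := by
    intro P
    rw [hub, hhb, ← map_pow, ← ShortPresSL2.map_polyWord]
    refine congrArg D.pr (Subtype.ext ?_)
    exact ShortPresSL2.map_polyWord D.B.subtype _ _ P
  have hup : ub ^ p = 1 := by
    rw [hub, ← map_pow, pr_eq_one]
    exact D.rel_up
  have hcomm : ∀ n : ℕ, Commute ub ((hb ^ D.k) ^ n * ub * ((hb ^ D.k) ^ n)⁻¹) := by
    intro n
    refine (mul_inv_eq_one.1 ?_).symm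
    rw [hub, hhb, ← map_pow, ← map_pow, ← map_inv, ← map_mul, ← map_mul, ← map_mul, ← map_mul, ← map_inv,
      ← map_mul, pr_eq_one]
    exact D.rel_comm n
  have hmin : polyWord ub (hb ^ D.k) (minpoly (ZMod p) α) = 1 := by
    rw [hpoly, pr_eq_one]; exact D.rel_min
  have hc : hb * ub * hb⁻¹ = polyWord ub (hb ^ D.k) D.Pc := by
    rw [hpoly, ← mul_inv_eq_one, hub, hhb, ← map_inv, ← map_mul, ← map_mul, ← map_inv, ← map_mul, pr_eq_one]
    exact D.rel_c
  obtain ⟨f, hf1, hfw, hfh⟩ := ShortPresSL2.exists_hom_field α (mu q (D.ω : F)) D.hsurj hup hcomm hmin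
    (Commute.self_pow hb D.k) D.hPc hc
  refine ⟨f, hf1, hfh, fun x z => ?_⟩
  obtain ⟨P, rfl⟩ := D.hsurj x
  let tr' : Multiplicative F →* (Function.End F)ˣ :=
    (trans F).comp (AddMonoidHom.toMultiplicative (AddMonoidHom.mulRight D.a₀))
  have e : D.affQ (f (.ofAdd (Polynomial.aeval α P))) = tr' (.ofAdd (Polynomial.aeval α P)) := by
    rw [← hfw, ShortPresSL2.map_polyWord]
    refine ShortPresSL2.polyWord_eq α tr' ?_ (fun x => ?_) P
    · refine Units.ext (funext fun z => ?_)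
      rw [D.affQ_u]
      show z + (1 : F) * D.a₀ = z + D.a₀
      rw [one_mul]
    · have hpow : ∀ (j : ℕ) (z : F), ((D.affQ hb ^ j).1) z = mu q (D.ω : F) ^ j * z := by
        intro j
        induction j with
        | zero => intro z; simp; rfl
        | succ j ih =>
          intro z
          rw [pow_succ', Units.val_mul]
          show (D.affQ hb).1 ((D.affQ hb ^ j).1 z) = _
          rw [ih, hhb, D.affQ_h, pow_succ']; ring
      rw [eq_mul_inv_iff_mul_eq, map_pow]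
      refine Units.ext (funext fun z => ?_)
      show (tr' _).1 ((D.affQ hb ^ D.k).1 z) = (D.affQ hb ^ D.k).1 ((tr' _).1 z)
      rw [hpow, hpow]
      show mu q (D.ω : F) ^ D.k * z + α * x * D.a₀ = mu q (D.ω : F) ^ D.k * (z + x * D.a₀)
      rw [hα, map_pow]; ring
  rw [e]
  rfl

/-- Every element of the quotient is a translation times a power of the torus generator. -/
theorem exists_form (y : D.Q) {f : Multiplicative F →* D.Q} (hf1 : f (.ofAdd 1) = D.pr ⟨D.u, D.u_mem⟩)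
    (hfh : ∀ x, D.pr ⟨D.h, D.h_mem⟩ * f (.ofAdd x) * (D.pr ⟨D.h, D.h_mem⟩)⁻¹ =
      f (.ofAdd (mu q (D.ω : F) * x))) :
    ∃ (x : F) (j : ℕ), y = f (.ofAdd x) * D.pr ⟨D.h, D.h_mem⟩ ^ j := by
  set hb := D.pr ⟨D.h, D.h_mem⟩ with hhb
  have hord : hb ^ ((q + 1) * (q - 1)) = 1 := by
    rw [hhb, ← map_pow, show (⟨D.h, D.h_mem⟩ : D.B) ^ ((q + 1) * (q - 1)) = 1 from Subtype.ext D.h_pow_card,
      map_one]
  have hmove : ∀ (j : ℕ) (x : F), hb ^ j * f (.ofAdd x) = f (.ofAdd (mu q (D.ω : F) ^ j * x)) * hb ^ j := by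
    intro j
    induction j with
    | zero => intro x; simp
    | succ j ih =>
      intro x
      rw [pow_succ, mul_assoc, show hb * f (.ofAdd x) = f (.ofAdd (mu q (D.ω : F) * x)) * hb by
        rw [← hfh]; group, ← mul_assoc, ih, mul_assoc, pow_succ (mu q (D.ω : F)), mul_assoc]
  let S : Subgroup D.Q :=
    { carrier := {y | ∃ (x : F) (j : ℕ), y = f (.ofAdd x) * hb ^ j}
      one_mem' := ⟨0, 0, by rw [ofAdd_zero, map_one, pow_zero, mul_one]⟩
      mul_mem' := by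
        rintro _ _ ⟨x, i, rfl⟩ ⟨y, j, rfl⟩
        refine ⟨x + mu q (D.ω : F) ^ i * y, i + j, ?_⟩
        rw [ofAdd_add, map_mul, pow_add, mul_assoc, ← mul_assoc (hb ^ i), hmove]
        group
      inv_mem' := by
        rintro _ ⟨x, i, rfl⟩
        have hi : (hb ^ i)⁻¹ = hb ^ (((q + 1) * (q - 1) - 1) * i) := by
          refine inv_eq_of_mul_eq_one_right ?_
          rw [← pow_add, add_comm, ← Nat.succ_mul, Nat.succ_eq_add_one,
            Nat.sub_add_cancel (one_le_card (hF := hF)), pow_mul, hord, one_pow]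
        refine ⟨mu q (D.ω : F) ^ (((q + 1) * (q - 1) - 1) * i) * -x, ((q + 1) * (q - 1) - 1) * i, ?_⟩
        rw [_root_.mul_inv_rev, hi, ← map_inv, ← ofAdd_neg, hmove] }
  have : y ∈ S := by
    obtain ⟨⟨g, hg⟩, rfl⟩ := QuotientGroup.mk'_surjective _ y
    have hle : D.B ≤ (S.comap D.pr).map D.B.subtype := by
      refine (Subgroup.closure_le _).2 ?_
      rintro z ((rfl | rfl) | ⟨t, rfl⟩)
      · exact ⟨⟨D.u, D.u_mem⟩, ⟨1, 0, by rw [pow_zero, mul_one, hf1]⟩, rfl⟩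
      · exact ⟨⟨D.h, D.h_mem⟩, ⟨0, 1, by rw [ofAdd_zero, map_one, pow_one, one_mul]⟩, rfl⟩
      · refine ⟨⟨D.χ (matU t), D.U_mem t⟩, ?_, rfl⟩
        show D.pr _ ∈ S
        rw [D.pr_eq_one.2 (D.mem_long t)]
        exact one_mem S
    obtain ⟨⟨g', hg'⟩, hm, hh⟩ := hle hg
    obtain rfl : g' = g := hh
    exact hm
  exact this

theorem injOn {x : G} (hx : x ∈ D.B) (h1 : D.π x = 1) : x = 1 := by
  obtain ⟨f, hf1, hfh, hfa⟩ := D.exists_f
  obtain ⟨a, j, he⟩ := D.exists_form (D.pr ⟨x, hx⟩) hf1 hfh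
  have ha : a = 0 := by
    have e := congrArg (fun y => (D.affQ y).1 0) he
    simp only [map_mul, Units.val_mul] at e
    rw [affQ_pr] at e
    have hz : ∀ i : ℕ, (D.affQ (D.pr ⟨D.h, D.h_mem⟩ ^ i)).1 0 = 0 := by
      intro i
      induction i with
      | zero => rw [pow_zero, map_one]; rfl
      | succ i ih =>
        rw [pow_succ', map_mul, Units.val_mul]
        exact (congrArg (D.affQ (D.pr ⟨D.h, D.h_mem⟩)).1 ih).trans (by rw [D.affQ_h, mul_zero])
    simp only [h1] at e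
    have e' : (0 : F) = (D.affQ (f (.ofAdd a))).1 ((D.affQ (D.pr ⟨D.h, D.h_mem⟩ ^ j)).1 0) := by
      refine Eq.trans ?_ e
      rw [show (⟨1, D.π_mem (x := x) hx |> fun _ => one_mem _⟩ : Bor hF) = 1 from rfl, map_one]
      rfl
    rw [hz, hfa, zero_add] at e'
    exact (mul_eq_zero.1 e'.symm).resolve_right D.ha₀
  subst ha
  rw [ofAdd_zero, map_one, one_mul, ← map_pow, pr, QuotientGroup.mk'_apply, QuotientGroup.mk'_apply,
    QuotientGroup.eq] at he
  obtain ⟨t, ht⟩ := he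
  have hxj : x * D.χ (matU t.toAdd) = D.h ^ j := by
    show x * (D.χ.comp ShortPresSL2.homU) t = _
    rw [ht]
    show x * (x⁻¹ * D.h ^ j) = _
    rw [mul_inv_cancel_left]
  have hπ := congrArg D.π hxj
  rw [map_mul, h1, one_mul, D.πχ, map_pow, D.πh, ← map_pow, iota_matU] at hπ
  have hm := congrArg (fun g : H3 F q => g.1.1) hπ
  simp only [U3_coe, T3_coe] at hm
  have e00 := congrFun (congrFun hm 0) 0
  have e02 := congrFun (congrFun hm 0) 2
  simp [hδ0] at e00 e02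
  have ht0 : t.toAdd = 0 := by ext; simpa using e02
  rw [ht0, ShortPresSL2.matU_zero, map_one, mul_one, D.h_pow_eq_one e00.symm] at hxj
  exact hxj

theorem eq_of_π {x y : G} (hx : x ∈ D.B) (hy : y ∈ D.B) (h : D.π x = D.π y) : x = y := by
  refine mul_inv_eq_one.1 (D.injOn (mul_mem hx (inv_mem hy)) ?_)
  rw [map_mul, map_inv, h, mul_inv_cancel]

theorem exists_T3 (l : Fˣ) : ∃ j : ℕ, D.π (D.h ^ j) = T3 hF l := by
  obtain ⟨j, hj⟩ := mem_powers_iff_mem_zpowers.2 (D.hω l)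
  exact ⟨j, by rw [map_pow, D.πh, ← map_pow]; exact congrArg _ hj⟩

theorem exists_lift {y : H3 F q} (hy : y ∈ Bor hF) : ∃ x ∈ D.B, D.π x = y := by
  obtain ⟨a, b, hab, l, rfl⟩ := exists_bor hF hy
  obtain ⟨f, hf1, hfh, hfa⟩ := D.exists_f
  obtain ⟨⟨x, hx⟩, hx'⟩ := QuotientGroup.mk'_surjective _ (f (.ofAdd (a / D.a₀)))
  obtain ⟨a', b', hab', l', hπ⟩ := exists_bor hF (D.π_mem hx)
  have ha : a' = a := by
    have e := hfa (a / D.a₀) 0
    rw [← hx', zero_add, div_mul_cancel₀ _ D.ha₀] at e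
    rw [← e]
    show a' = (D.affQ (D.pr ⟨x, hx⟩)).1 0
    rw [affQ_pr, aff_apply]
    simp only [hπ, H3_coe_mul, U3_coe, T3_coe]
    simp [Matrix.mul_apply, Fin.sum_univ_three]
  subst ha
  obtain ⟨i, hi⟩ := D.exists_T3 l'
  obtain ⟨j, hj⟩ := D.exists_T3 l
  have hc : (b - b') ^ q = -(b - b') := by rw [sub_pow_q hF]; linear_combination hab - hab'
  have hs : (b - b') / δ ∈ Kf hF := by
    rw [mem_Kf, div_pow, hc, hδ, neg_div_neg_eq]
  refine ⟨x * (D.h ^ i)⁻¹ * D.χ (matU ⟨_, hs⟩) * D.h ^ j,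
    mul_mem (mul_mem (mul_mem hx (inv_mem (pow_mem D.h_mem _))) (D.U_mem _)) (pow_mem D.h_mem _), ?_⟩
  rw [map_mul, map_mul, map_mul, map_inv, hi, hj, hπ, mul_inv_cancel_right, D.πχ, iota_matU, U3_mul]
  refine congrArg (· * T3 hF l) (U3_congr hF _ _ (add_zero _) ?_)
  show b' + δ * ((b - b') / δ) - a' ^ q * 0 = b
  field_simp
  ring

/-- The relation of Bruhat type at `(a, b)`. -/
def Good (a b : F) : Prop :=
  ∀ x ∈ D.B, ∀ e, D.π x = U3 hF a b e → CellG D.χ D.u D.h (D.w * x * D.w⁻¹)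

theorem cell_mul {g y y' : G} (hy : y ∈ D.B) (hy' : y' ∈ D.B) (hg : CellG D.χ D.u D.h g) :
    CellG D.χ D.u D.h (y * g * y') := by
  obtain ⟨y₁, h₁, y₂, h₂, rfl⟩ := hg
  exact ⟨y * y₁, mul_mem hy h₁, y₂ * y', mul_mem h₂ hy', by group⟩

theorem w_conj_h (j : ℕ) : D.w * D.h ^ j * D.w⁻¹ ∈ D.B := by
  rw [← conj_pow, w, D.rel_wh]
  exact pow_mem (inv_mem (pow_mem D.h_mem _)) _

theorem w_conj_torus {x : G} (hx : x ∈ D.B) (l : Fˣ) (h : D.π x = T3 hF l) : D.w * x * D.w⁻¹ ∈ D.B := by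
  obtain ⟨j, hj⟩ := D.exists_T3 l
  rw [D.eq_of_π hx (pow_mem D.h_mem j) (h.trans hj.symm)]
  exact D.w_conj_h j

theorem D_mem (l : (Kf hF)ˣ) : D.χ (matD l) ∈ D.B := by
  obtain ⟨j, hj⟩ := mem_powers_iff_mem_zpowers.2 (D.hω (kUnit hF l))
  have hj' : ((D.ω : F) ^ j) ^ q = (D.ω : F) ^ j := by
    rw [← Units.val_pow_eq_pow_val, show D.ω ^ j = _ from hj]
    exact Kf_fixed hF _
  obtain ⟨i, rfl⟩ := (gen_fixed D.hω hF j).1 hj'
  have e : kUnit hF (D.ν ^ i) = kUnit hF l := by rw [map_pow, D.hν, ← pow_mul]; exact hj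
  rw [show l = D.ν ^ i from (Units.ext (Subtype.ext (congrArg Units.val e))).symm,
    ← ShortPresSL2.matD_pow, map_pow, D.rel_D]
  exact pow_mem (pow_mem D.h_mem _) _

theorem w_sq_mem : D.w * D.w ∈ D.B := by
  have e : (matT : Matrix.SpecialLinearGroup (Fin 2) (Kf hF)) * matT = matD (-1) := by
    refine Subtype.ext ?_
    simp only [Matrix.SpecialLinearGroup.coe_mul]
    simp [matT, matD]
  rw [w, ← map_mul, e]
  exact D.D_mem _

/-- Inside the big cell the unipotent factor is the expected one. -/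
theorem exists_exact {a b : F} {e : b + b ^ q + a * a ^ q = 0} (hb : b ≠ 0) {x : G}
    (hx : D.π x = U3 hF a b e) (hc : CellG D.χ D.u D.h (D.w * x * D.w⁻¹)) :
    ∃ y ∈ D.B, ∃ z ∈ D.B, D.π z = U3 hF (-(a * δ) / b ^ q) (-δ ^ 2 / b) (fe_cond_right hF hδ e hb) ∧
      D.w * x * D.w⁻¹ = y * D.w * z := by
  obtain ⟨y₁, h₁, y₂, h₂, he⟩ := hc
  obtain ⟨a', b', e', l, hinv⟩ := exists_bor hF (inv_mem (D.π_mem h₂))
  obtain ⟨j, hj⟩ := D.exists_T3 l
  refine ⟨y₁ * (D.w * (D.h ^ j)⁻¹ * D.w⁻¹), mul_mem h₁ ?_, D.h ^ j * y₂,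
    mul_mem (pow_mem D.h_mem _) h₂, ?_, by rw [he, w]; group⟩
  · rw [show D.w * (D.h ^ j)⁻¹ * D.w⁻¹ = (D.w * D.h ^ j * D.w⁻¹)⁻¹ by group]
    exact inv_mem (D.w_conj_h j)
  have hz : D.π (D.h ^ j * y₂) = (U3 hF a' b' e')⁻¹ := by
    rw [map_mul, hj, ← _root_.inv_inj, _root_.mul_inv_rev, inv_inv, hinv, mul_inv_cancel_right]
  have hinvU : (U3 hF a' b' e')⁻¹ = U3 hF (-a') (-b' - a' * a' ^ q)
      (by rw [sub_pow_q hF, mul_pow, neg_pow_q hF, pow_q_q hF, neg_pow_q hF]; linear_combination -e') := by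
    refine inv_eq_of_mul_eq_one_right ?_
    rw [U3_mul]
    exact U3_eq_one hF _ (by ring)
  have hkey := congrArg D.π he
  rw [show y₁ * D.χ matT * y₂ = y₁ * (D.w * (D.h ^ j)⁻¹ * D.w⁻¹) * D.w * (D.h ^ j * y₂) by
    rw [w]; group] at hkey
  simp only [map_mul _ (y₁ * (D.w * (D.h ^ j)⁻¹ * D.w⁻¹) * D.w), map_mul _ _ D.w] at hkey
  rw [hz, hinvU, D.pw, map_mul, map_mul, map_inv, D.pw, hx, fe hF hδ hδ0 e hb] at hkey
  have hy : D.π (y₁ * (D.w * (D.h ^ j)⁻¹ * D.w⁻¹)) ∈ Bor hF := by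
    refine D.π_mem (mul_mem h₁ ?_)
    rw [show D.w * (D.h ^ j)⁻¹ * D.w⁻¹ = (D.w * D.h ^ j * D.w⁻¹)⁻¹ by group]
    exact inv_mem (D.w_conj_h j)
  obtain ⟨ha, hb'⟩ := cell_unique hF hδ hδ0 (mul_mem (U3_mem hF _) (T3_mem hF _)) hy hkey
  rw [hz, hinvU]
  exact U3_congr hF _ _ ha.symm hb'.symm

theorem long_cell (t : (Kf hF)ˣ) :
    ∃ y ∈ D.B, D.w * D.χ (matU (t : Kf hF)) * D.w⁻¹ = y * D.w * D.χ (matU (-(t : Kf hF)⁻¹)) := by
  refine ⟨D.χ (matU (-(t : Kf hF)⁻¹)) * D.χ (matD t⁻¹), mul_mem (D.U_mem _) (D.D_mem _), ?_⟩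
  rw [w, ← map_inv, ← map_mul, ← map_mul, matT_matU_matT, map_mul, map_mul, map_mul]

/-- The value `t` is good. -/
def GoodT (t : F) : Prop := ∀ a : F, a ≠ 0 → D.Good a (t * (a * a ^ q))

theorem good_conj {a b : F} (hg : D.Good a b) (l : Fˣ) :
    D.Good (mu q (l : F) * a) ((l : F) * (l : F) ^ q * b) := by
  intro x hx e hπ
  obtain ⟨j, hj⟩ := D.exists_T3 l
  have e0 : b + b ^ q + a * a ^ q = 0 := by
    have h0 : (l : F) * (l : F) ^ q ≠ 0 := mul_ne_zero l.ne_zero (pow_ne_zero _ l.ne_zero)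
    refine mul_left_cancel₀ h0 ?_
    rw [mul_pow, mul_pow, mul_pow, pow_q_q hF] at e
    linear_combination e - (a * a ^ q) * norm_mu hF (l : F)
  have hx' : D.π ((D.h ^ j)⁻¹ * x * D.h ^ j) = U3 hF a b e0 := by
    rw [map_mul, map_mul, map_inv, hj, hπ]
    rw [show U3 hF _ _ e = T3 hF l * U3 hF a b e0 * (T3 hF l)⁻¹ from (T3_conj hF l e0).symm]
    group
  have hc := hg _ (mul_mem (mul_mem (inv_mem (pow_mem D.h_mem _)) hx) (pow_mem D.h_mem _)) e0 hx'
  have := D.cell_mul (D.w_conj_h j) (inv_mem (D.w_conj_h j)) hc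
  convert this using 1
  group

theorem goodT_r : D.GoodT D.r := by
  intro a ha
  obtain ⟨n, hn⟩ := mem_powers_iff_mem_zpowers.2 (D.hω (Units.mk0 a ha))
  have hn' : (D.ω : F) ^ n = a := by
    rw [← Units.val_pow_eq_pow_val, show D.ω ^ n = _ from hn, Units.val_mk0]
  obtain ⟨x, hx, ⟨e, he⟩, hc⟩ := D.rel_orb (n % 3) (Nat.mod_lt _ (by norm_num))
  have hg : D.Good ((D.ω : F) ^ (n % 3)) (D.r * ((D.ω : F) ^ (n % 3) * ((D.ω : F) ^ (n % 3)) ^ q)) := by
    intro y hy e' hy'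
    rw [D.eq_of_π hy hx (hy'.trans ((U3_congr hF e' e rfl rfl).trans he.symm))]
    exact hc
  have := D.good_conj hg (D.ω ^ ((2 * q + 1) * (n / 3)))
  have h3 : mu q ((D.ω ^ ((2 * q + 1) * (n / 3)) : Fˣ) : F) * (D.ω : F) ^ (n % 3) = a := by
    have e' : (2 * q + 1) * (n / 3) * (2 * q - 1) = (q + 1) * (q - 1) * (4 * (n / 3)) + 3 * (n / 3) := by
      obtain ⟨s, rfl⟩ : ∃ s, q = s + 1 := ⟨q - 1, by have := one_lt_q hF; omega⟩
      rw [Nat.add_sub_cancel, show 2 * (s + 1) - 1 = 2 * s + 1 by omega]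
      ring
    rw [Units.val_pow_eq_pow_val, mu_apply, ← pow_mul, e', pow_add, pow_mul,
      (gen_pow_eq_one D.hω hF _).2 dvd_rfl, one_pow, one_mul, ← pow_add, Nat.div_add_mod, hn']
  have hN : ((D.ω ^ ((2 * q + 1) * (n / 3)) : Fˣ) : F) * ((D.ω ^ ((2 * q + 1) * (n / 3)) : Fˣ) : F) ^ q *
      (D.r * ((D.ω : F) ^ (n % 3) * ((D.ω : F) ^ (n % 3)) ^ q)) = D.r * (a * a ^ q) := by
    rw [← norm_mu hF, ← h3, mul_pow]; ring
  rw [h3, hN] at this
  exact this

/-- The step: `t` is good as soon as `r̄ t / (t - r)` is. -/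
theorem goodT_step {t : F} (ht : t + t ^ q = -1) (hne : t ≠ D.r)
    (hg : D.GoodT (D.r ^ q * t / (t - D.r))) : D.GoodT t := by
  intro a ha x hx e hπ
  set N := a * a ^ q with hN
  have hN0 : N ≠ 0 := mul_ne_zero ha (pow_ne_zero _ ha)
  have hNq : N ^ q = N := by rw [hN, mul_pow, pow_q_q hF, mul_comm]
  have hr0 : D.r ≠ 0 := fun h => by
    have := D.hr
    rw [h, zero_pow_q hF, zero_add] at this
    exact one_ne_zero (neg_eq_zero.1 this.symm)
  have e1 : D.r * N + (D.r * N) ^ q + a * a ^ q = 0 := by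
    rw [mul_pow, hNq, ← hN]
    linear_combination N * D.hr
  have hd0 : t - D.r ≠ 0 := sub_ne_zero.2 hne
  have hs : (t - D.r) * N / δ ∈ Kf hF := by
    rw [mem_Kf, div_pow, mul_pow, hNq, hδ, sub_pow_q hF,
      show t ^ q - D.r ^ q = -(t - D.r) by linear_combination ht - D.hr, neg_mul, neg_div_neg_eq]
  have hs0 : (⟨_, hs⟩ : Kf hF) ≠ 0 := fun h =>
    div_ne_zero (mul_ne_zero hd0 hN0) hδ0 (congrArg Subtype.val h)
  obtain ⟨g, hgB, hgπ⟩ := D.exists_lift (U3_mem hF e1)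
  have hgg := D.goodT_r a ha g hgB e1 hgπ
  have hb : D.r * N ≠ 0 := mul_ne_zero hr0 hN0
  obtain ⟨y, hy, z, hz, hzπ, hL⟩ := D.exists_exact hb hgπ hgg
  obtain ⟨y', hy', hL'⟩ := D.long_cell (Units.mk0 _ hs0)
  set s : Kf hF := ⟨_, hs⟩ with hsd
  have hx' : x = g * D.χ (matU s) := by
    refine D.eq_of_π hx (mul_mem hgB (D.U_mem _)) ?_
    rw [hπ, map_mul, hgπ, D.πχ, iota_matU, U3_mul]
    refine U3_congr hF _ _ (add_zero a).symm ?_
    show t * N = D.r * N + δ * ((t - D.r) * N / δ) - a ^ q * 0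
    field_simp
    ring
  obtain ⟨y₁, y₁B, ey₁⟩ : ∃ y₁ ∈ D.B, D.χ (matU (-s⁻¹)) * D.χ (matD (Units.mk0 s hs0)⁻¹) = y₁ :=
    ⟨_, mul_mem (D.U_mem _) (D.D_mem _), rfl⟩
  have hL2 : D.w * D.χ (matU s) * D.w⁻¹ = y₁ * D.w * D.χ (matU (-s⁻¹)) := by
    rw [← ey₁, w, ← map_inv, ← map_mul, ← map_mul,
      show matU s = matU ((Units.mk0 s hs0 : (Kf hF)ˣ) : Kf hF) from rfl, matT_matU_matT, map_mul, map_mul,
      map_mul]
    rfl
  have key : D.w * x * D.w⁻¹ = y * (D.w * (z * D.χ (matU (-s⁻¹))) * D.w⁻¹) *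
      ((D.w * D.χ (matD (Units.mk0 s hs0)⁻¹) * D.w⁻¹) * (D.w * D.w) * D.χ (matU (-s⁻¹))) := by
    rw [hx', show D.w * (g * D.χ (matU s)) * D.w⁻¹ = (D.w * g * D.w⁻¹) * (D.w * D.χ (matU s) * D.w⁻¹) by group,
      hL, hL2, ← ey₁]
    group
  have hwd : D.w * D.χ (matD (Units.mk0 s hs0)⁻¹) * D.w⁻¹ ∈ D.B :=
    D.w_conj_torus (D.D_mem _) _ (by rw [D.πχ, iota_matD])
  rw [key]
  refine D.cell_mul hy (mul_mem (mul_mem hwd D.w_sq_mem) (D.U_mem _)) ?_
  set b := D.r * N with hbd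
  have ha3 : -(a * δ) / b ^ q ≠ 0 :=
    div_ne_zero (neg_ne_zero.2 (mul_ne_zero ha hδ0)) (pow_ne_zero _ hb)
  have hπ3 := (map_mul D.π z (D.χ (matU (-s⁻¹))))
  rw [hzπ, D.πχ, iota_matU, U3_mul] at hπ3
  have hval : D.r ^ q * t / (t - D.r) * (-(a * δ) / b ^ q * (-(a * δ) / b ^ q) ^ q) =
      -δ ^ 2 / b + δ * ((-s⁻¹ : Kf hF) : F) := by
    simp only [hbd, div_pow, neg_pow_q hF, mul_pow, hδ, pow_q_q hF, hNq]
    push_cast
    rw [hsd]
    have hrq : D.r ^ q ≠ 0 := pow_ne_zero _ hr0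
    simp only [hN] at hN0 ⊢
    field_simp
    ring
  refine hg _ ha3 _ (mul_mem hz (D.U_mem _)) ?_ (hπ3.trans (U3_congr hF _ _ (add_zero _) ?_))
  · rw [hval]
    have := U3_mul_cond hF (fe_cond_right hF hδ e1 hb) (long_cond hF hδ (-s⁻¹))
    simpa using this
  · rw [hval, mul_zero, sub_zero]

theorem goodT_all {t : F} (ht : t + t ^ q = -1) : D.GoodT t := by
  obtain ⟨r, hr, hξ⟩ : ∃ r, r = D.r ∧ r / (r + 1) = (D.ω : F) ^ (q - 1) := ⟨D.r, rfl, D.hξ⟩
  set ξ := (D.ω : F) ^ (q - 1) with hξd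
  have h1q := one_lt_q hF
  have hξ1 : ξ ≠ 1 := fun h => by
    have := Nat.le_of_dvd (by omega) ((gen_pow_eq_one D.hω hF (q - 1)).1 h)
    nlinarith [show 1 ≤ q - 1 by omega, show 3 ≤ q + 1 by omega]
  have hinvp : ∀ t : F, t + t ^ q = -1 → t + 1 ≠ 0 ∧ (t / (t + 1)) * (t / (t + 1)) ^ q = 1 ∧ t / (t + 1) ≠ 1 := by
    intro t ht
    have e : t + 1 = -(t ^ q) := by linear_combination ht
    have ht0 : t ≠ 0 := fun h => by
      rw [h, zero_pow_q hF, zero_add] at ht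
      exact one_ne_zero (neg_eq_zero.1 ht.symm)
    refine ⟨by rw [e]; exact neg_ne_zero.2 (pow_ne_zero _ ht0), ?_, fun h => ?_⟩
    · rw [e, div_pow, neg_pow_q hF, pow_q_q hF]
      field_simp
    · rw [e, div_eq_one_iff_eq (neg_ne_zero.2 (pow_ne_zero _ ht0))] at h
      exact zero_ne_one (by linear_combination -ht + h)
  have main : ∀ (k : ℕ) (t : F), t + t ^ q = -1 → t / (t + 1) = ξ ^ k → D.GoodT t := by
    intro k
    induction k with
    | zero => intro t ht h; exact absurd (h.trans (pow_zero ξ)) (hinvp t ht).2.2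
    | succ k ih =>
      intro t ht h
      obtain ⟨ht1, -, -⟩ := hinvp t ht
      obtain ⟨hr1, -, -⟩ := hinvp r (hr ▸ D.hr)
      by_cases htr : t = r
      · rw [htr, hr]; exact D.goodT_r
      refine D.goodT_step ht (hr ▸ htr) ?_
      have hd : t - r ≠ 0 := sub_ne_zero.2 htr
      have hrq : r ^ q = -1 - r := by rw [hr]; linear_combination D.hr
      have hr0 : r ≠ 0 := fun h0 => by
        have := hξ
        rw [h0, zero_div] at this
        exact (pow_ne_zero (q - 1) D.ω.ne_zero) this.symm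
      refine ih _ ?_ ?_
      · rw [← hr, div_pow, mul_pow, sub_pow_q hF, pow_q_q hF,
          show t ^ q = -1 - t by linear_combination ht, hrq,
          show -1 - t - (-1 - r) = -(t - r) by ring]
        field_simp
        ring
      · rw [← hr, hrq]
        have hx0 : ξ ≠ 0 := pow_ne_zero _ D.ω.ne_zero
        refine mul_right_cancel₀ hx0 ?_
        rw [← pow_succ, ← h, ← hξ]
        have hd2 : (-1 - r) * t / (t - r) + 1 = -(r * (t + 1)) / (t - r) := by field_simp; ring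
        rw [hd2]
        field_simp
        ring
  obtain ⟨ht1, hv, -⟩ := hinvp t ht
  have ht0 : t / (t + 1) ≠ 0 := fun h => by rw [h, zero_mul] at hv; exact zero_ne_one hv
  obtain ⟨j, hj⟩ := mem_powers_iff_mem_zpowers.2 (D.hω (Units.mk0 _ ht0))
  have hj' : (D.ω : F) ^ j = t / (t + 1) := by
    rw [← Units.val_pow_eq_pow_val, show D.ω ^ j = _ from hj, Units.val_mk0]
  have hdvd : q - 1 ∣ j := by
    rw [← hj', ← pow_succ', ← pow_mul, gen_pow_eq_one D.hω hF, mul_comm (q + 1) (q - 1)] at hv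
    exact Nat.dvd_of_mul_dvd_mul_right (show 0 < q + 1 by omega) hv
  obtain ⟨k, rfl⟩ := hdvd
  exact main k t ht (by rw [← hj', pow_mul])

theorem good_all {a b : F} (e : b + b ^ q + a * a ^ q = 0) (hb : b ≠ 0) : D.Good a b := by
  intro x hx e' hπ
  rcases eq_or_ne a 0 with rfl | ha
  · rw [zero_mul, add_zero] at e
    have hs : b / δ ∈ Kf hF := by
      rw [mem_Kf, div_pow, show b ^ q = -b by linear_combination e, hδ, neg_div_neg_eq]
    have hs0 : (⟨_, hs⟩ : Kf hF) ≠ 0 := fun h => div_ne_zero hb hδ0 (congrArg Subtype.val h)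
    obtain ⟨y, hy, hL⟩ := D.long_cell (Units.mk0 _ hs0)
    have : x = D.χ (matU (⟨_, hs⟩ : Kf hF)) := by
      refine D.eq_of_π hx (D.U_mem _) ?_
      rw [hπ, D.πχ, iota_matU]
      refine U3_congr hF _ _ rfl ?_
      show b = δ * (b / δ)
      field_simp
    rw [this]
    exact ⟨y, hy, _, D.U_mem _, hL⟩
  have hN : a * a ^ q ≠ 0 := mul_ne_zero ha (pow_ne_zero _ ha)
  have ht : b / (a * a ^ q) + (b / (a * a ^ q)) ^ q = -1 := by
    rw [div_pow, mul_pow, pow_q_q hF]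
    field_simp
    linear_combination e
  exact D.goodT_all ht a ha x hx
    (by rw [div_mul_cancel₀ _ hN]; exact e)
    (hπ.trans (U3_congr hF _ _ rfl (div_mul_cancel₀ _ hN).symm))

theorem cells (g : G) : g ∈ D.B ∨ CellG D.χ D.u D.h g := by
  let S : Set G := {g | g ∈ D.B ∨ CellG D.χ D.u D.h g}
  have hB : ∀ y ∈ D.B, ∀ g ∈ S, y * g ∈ S := by
    rintro y hy g (hg | hg)
    · exact Or.inl (mul_mem hy hg)
    · exact Or.inr (by simpa using D.cell_mul hy (one_mem _) hg)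
  have hwB : ∀ y ∈ D.B, D.w * y * D.w⁻¹ ∈ S := by
    intro y hy
    obtain ⟨a, b, e, l, hπ⟩ := exists_bor hF (D.π_mem hy)
    obtain ⟨j, hj⟩ := D.exists_T3 l
    have hu : D.π (y * (D.h ^ j)⁻¹) = U3 hF a b e := by
      rw [map_mul, map_inv, hj, hπ, mul_inv_cancel_right]
    have huB : y * (D.h ^ j)⁻¹ ∈ D.B := mul_mem hy (inv_mem (pow_mem D.h_mem _))
    have key : D.w * y * D.w⁻¹ = D.w * (y * (D.h ^ j)⁻¹) * D.w⁻¹ * (D.w * D.h ^ j * D.w⁻¹) := by group
    rw [key]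
    rcases eq_or_ne b 0 with hb | hb
    · have h1 : y * (D.h ^ j)⁻¹ = 1 := D.injOn huB (hu.trans (U3_eq_one hF e hb))
      rw [h1, mul_one, mul_inv_cancel, one_mul]
      exact Or.inl (D.w_conj_h j)
    · exact Or.inr (by simpa using D.cell_mul (one_mem _) (D.w_conj_h j) (D.good_all e hb _ huB e hu))
  have hW : ∀ g ∈ S, D.w * g ∈ S := by
    rintro g (hg | ⟨y₁, h₁, y₂, h₂, rfl⟩)
    · exact Or.inr ⟨1, one_mem _, g, hg, by rw [one_mul]; rfl⟩
    · have e : D.w * (y₁ * D.χ matT * y₂) = (D.w * y₁ * D.w⁻¹) * ((D.w * D.w) * y₂) := by rw [w]; group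
      rw [e]
      rcases hwB y₁ h₁ with h | h
      · exact Or.inl (mul_mem h (mul_mem D.w_sq_mem h₂))
      · exact Or.inr (by simpa using D.cell_mul (one_mem _) (mul_mem D.w_sq_mem h₂) h)
  have hgen : g ∈ Subgroup.closure ({D.u, D.h, D.χ matT} : Set G) := by rw [D.hgen]; trivial
  suffices g ∈ S from this
  induction hgen using Subgroup.closure_induction_left with
  | one => exact Or.inl (one_mem _)
  | mul_left x hx y _ ih =>
    rcases hx with rfl | rfl | rfl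
    · exact hB _ D.u_mem _ ih
    · exact hB _ D.h_mem _ ih
    · exact hW _ ih
  | inv_mul_cancel x hx y _ ih =>
    rcases hx with rfl | rfl | rfl
    · exact hB _ (inv_mem D.u_mem) _ ih
    · exact hB _ (inv_mem D.h_mem) _ ih
    · rw [show (D.χ matT)⁻¹ * y = (D.w * D.w)⁻¹ * (D.w * y) by rw [w]; group]
      exact hB _ (inv_mem D.w_sq_mem) _ (hW _ ih)

include D in
theorem bijective : Function.Bijective D.π := by
  constructor
  · rw [injective_iff_map_eq_one]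
    intro x hx
    rcases D.cells x with h | ⟨y₁, h₁, y₂, h₂, rfl⟩
    · exact D.injOn h hx
    · exfalso
      rw [map_mul, map_mul, D.πχ, iota_matT] at hx
      have : W3 hF hδ hδ0 = (D.π y₁)⁻¹ * (D.π y₂)⁻¹ := by
        rw [← _root_.mul_inv_rev, eq_comm, inv_eq_iff_mul_eq_one]
        calc D.π y₂ * D.π y₁ * W3 hF hδ hδ0 = D.π y₂ * (D.π y₁ * W3 hF hδ hδ0 * D.π y₂) * (D.π y₂)⁻¹ := by
              group
          _ = 1 := by rw [hx]; group
      exact W3_not_mem hF hδ hδ0 (this ▸ mul_mem (inv_mem (D.π_mem h₁)) (inv_mem (D.π_mem h₂)))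
  · intro g
    rcases exists_cell hF hδ hδ0 g with hg | ⟨y₁, h₁, y₂, h₂, rfl⟩
    · obtain ⟨x, -, hx⟩ := D.exists_lift hg
      exact ⟨x, hx⟩
    · obtain ⟨x₁, -, hx₁⟩ := D.exists_lift h₁
      obtain ⟨x₂, -, hx₂⟩ := D.exists_lift h₂
      exact ⟨x₁ * D.w * x₂, by rw [map_mul, map_mul, hx₁, hx₂, D.pw]⟩

end SU3Data

end Cfsg.Agent.Lib.ShortPresSU3
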