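import Cfsg.Agent.Lib.ShortPresSU3.Model
import Cfsg.Agent.Lib.ShortPresSL2.Main

/-!
# Short presentations of `SU₃`, part 3: the long root subgroup `SL₂(q)`
-/

set_option autoImplicit false
set_option linter.unusedSectionVars false

namespace Cfsg.Agent.Lib.ShortPresSU3

open Matrix Cfsg.Agent.Lib.Unitary
open ShortPresSL2 (matU matD matT)

variable {F : Type*} [Field F] [Fintype F] {q : ℕ} (hF : Fintype.card F = q ^ 2)

/-- The fixed field. -/
def Kf : Subfield F := (conj hF).eqLocusField (RingHom.id F)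

theorem mem_Kf {x : F} : x ∈ Kf hF ↔ x ^ q = x := Iff.rfl

theorem Kf_fixed (x : Kf hF) : (x : F) ^ q = x := x.2

noncomputable instance : Fintype (Kf hF) := Fintype.ofFinite _

theorem card_Kf : Fintype.card (Kf hF) = q := by
  rw [← Nat.card_eq_fintype_card]
  exact card_fixed hF

local notation "K" => (Kf hF)
local notation "SL₂" => Matrix.SpecialLinearGroup (Fin 2) (Kf hF)

/-- A unit of the fixed field as a unit of the field. -/
def kUnit : (Kf hF)ˣ →* Fˣ := Units.map (Kf hF).subtype.toMonoidHom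

@[simp] theorem kUnit_coe (l : (Kf hF)ˣ) : (kUnit hF l : F) = ((l : Kf hF) : F) := rfl

variable {δ : F} (hδ : δ ^ q = -δ) (hδ0 : δ ≠ 0)

include hδ in
theorem long_mem (M : SL₂) :
    (⟨!![((M.1 0 0 : K) : F), 0, δ * ((M.1 0 1 : K) : F); 0, 1, 0;
      δ⁻¹ * ((M.1 1 0 : K) : F), 0, ((M.1 1 1 : K) : F)], by
        have h := congrArg (Kf hF).subtype (Matrix.det_fin_two M.1)
        rw [M.2, map_one] at h
        rw [det_fin_three]
        simp at h ⊢
        field_simp
        linear_combination -h⟩ : Matrix.SpecialLinearGroup (Fin 3) F) ∈ H3 F q := by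
  refine mem_H3.2 ?_
  intro u v
  have h := congrArg (Kf hF).subtype (Matrix.det_fin_two M.1)
  rw [M.2, map_one] at h
  simp at h
  simp only [hf, Matrix.mulVec, dotProduct, Fin.sum_univ_three]
  simp [add_pow_q hF, mul_pow, inv_pow, hδ, Kf_fixed]
  field_simp
  linear_combination -(u 0 * v 2 ^ q + u 2 * v 0 ^ q) * δ * h

/-- The long root `SL₂(q)`. -/
def iota : SL₂ →* H3 F q :=
  MonoidHom.mk' (fun M => ⟨_, long_mem hF hδ hδ0 M⟩) fun M N => by
    refine H3_ext ?_
    rw [H3_coe_mul]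
    ext i j
    fin_cases i <;> fin_cases j <;>
      simp [Matrix.mul_apply, Fin.sum_univ_three, Fin.sum_univ_two, Matrix.SpecialLinearGroup.coe_mul] <;>
      field_simp <;> ring

theorem iota_coe (M : SL₂) : (iota hF hδ hδ0 M).1.1 =
    !![((M.1 0 0 : K) : F), 0, δ * ((M.1 0 1 : K) : F); 0, 1, 0;
      δ⁻¹ * ((M.1 1 0 : K) : F), 0, ((M.1 1 1 : K) : F)] := rfl

theorem iota_matT : iota hF hδ hδ0 matT = W3 hF hδ hδ0 := by
  refine H3_ext ?_
  rw [iota_coe, W3_coe]
  simp [matT]

theorem iota_matD (l : (Kf hF)ˣ) : iota hF hδ hδ0 (matD l) = T3 hF (kUnit hF l) := by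
  refine H3_ext ?_
  rw [iota_coe, T3_coe, kUnit_coe, Kf_fixed]
  simp [matD]

include hF hδ in
theorem long_cond (t : Kf hF) : δ * (t : F) + (δ * (t : F)) ^ q + (0 : F) * (0 : F) ^ q = 0 := by
  rw [mul_pow, hδ, Kf_fixed]; ring

theorem iota_matU (t : Kf hF) :
    iota hF hδ hδ0 (matU t) = U3 hF 0 (δ * (t : F)) (long_cond hF hδ t) := by
  refine H3_ext ?_
  rw [iota_coe, U3_coe]
  simp [matU, zero_pow_q hF]

theorem iota_injective : Function.Injective (iota hF hδ hδ0) := by
  intro M N h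
  have h' := congrArg (fun g : H3 F q => g.1.1) h
  simp only [iota_coe] at h'
  refine Subtype.ext ?_
  have e00 := congrFun (congrFun h' 0) 0
  have e02 := congrFun (congrFun h' 0) 2
  have e20 := congrFun (congrFun h' 2) 0
  have e22 := congrFun (congrFun h' 2) 2
  simp [hδ0] at e00 e02 e20 e22
  ext i j
  fin_cases i <;> fin_cases j <;> simp [e00, e02, e20, e22]

theorem matT_matU_matT {k : Type*} [Field k] (t : kˣ) :
    (matT : Matrix.SpecialLinearGroup (Fin 2) k) * matU (t : k) * matT⁻¹ =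
      matU (-(t : k)⁻¹) * matD t⁻¹ * matT * matU (-(t : k)⁻¹) := by
  rw [mul_inv_eq_iff_eq_mul]
  refine Subtype.ext ?_
  simp only [Matrix.SpecialLinearGroup.coe_mul]
  simp [matU, matD, matT, Units.val_inv_eq_inv_val]

end Cfsg.Agent.Lib.ShortPresSU3
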