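import Cfsg.Agent.Lib.ShortPresSU3.Criterion
import Cfsg.Agent.Lib.ShortPresSLn.Pres
import Cfsg.Agent.Lib.Linear.Order

/-!
# Short presentations of `SU₃`, part 5: three generators and at most twenty-three relations
-/

set_option autoImplicit false
set_option linter.unusedSectionVars false

namespace Cfsg.Agent.Lib.ShortPresSU3

open Matrix Cfsg.Agent.Lib.Unitary Subgroup Polynomial
open ShortPresSL2 (matU matD matT polyWord map_polyWord polyWord_mem polyWord_eq polyWord_one)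
open ShortPresSLn (HasPres)

variable {F : Type*} [Field F] [Fintype F] {q : ℕ}

/-! ### Facts in a group with the common relations -/

section abstract

variable {k : Type*} [Field k] [Fintype k] {G : Type*} [Group G]

/-- The torus generator moves the long root subgroup. -/
theorem conj_long (χ : Matrix.SpecialLinearGroup (Fin 2) k →* G) {h : G} (ν : kˣ)
    (hν : ∀ x : kˣ, ∃ i : ℕ, ν ^ i = x) {N : ℕ} (hD : χ (matD ν) = h ^ N)
    (hz : h * χ (matU 1) * h⁻¹ = χ (matU (ν : k))) (t : k) :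
    h * χ (matU t) * h⁻¹ = χ (matU ((ν : k) * t)) := by
  obtain ⟨a, b, hab⟩ := exists_sq_add_sq t
  have hsq : ∀ a : k, h * χ (matU (a ^ 2)) * h⁻¹ = χ (matU ((ν : k) * a ^ 2)) := by
    intro a
    rcases eq_or_ne a 0 with rfl | ha
    · rw [zero_pow two_ne_zero, mul_zero, ShortPresSL2.matU_zero, map_one, mul_one, mul_inv_cancel]
    obtain ⟨i, hi⟩ := hν (Units.mk0 a ha)
    have ea : (matU (a ^ 2) : Matrix.SpecialLinearGroup (Fin 2) k) =
        matD (ν ^ i) * matU 1 * (matD (ν ^ i))⁻¹ := by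
      rw [ShortPresSL2.matD_conj, hi, Units.val_mk0, mul_one]
    have eν : (matU ((ν : k) * a ^ 2) : Matrix.SpecialLinearGroup (Fin 2) k) =
        matD (ν ^ i) * matU (ν : k) * (matD (ν ^ i))⁻¹ := by
      rw [ShortPresSL2.matD_conj, hi, Units.val_mk0, mul_comm]
    have hd : χ (matD (ν ^ i)) = (h ^ N) ^ i := by rw [← ShortPresSL2.matD_pow, map_pow, hD]
    have hc : Commute h ((h ^ N) ^ i) := ((Commute.refl h).pow_right _).pow_right _
    rw [ea, eν, map_mul, map_mul, map_mul, map_mul, map_inv, hd, ← hz]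
    calc _ = (h * (h ^ N) ^ i) * χ (matU 1) * (h * (h ^ N) ^ i)⁻¹ := by group
      _ = _ := by rw [hc.eq]; group
  rw [← hab, mul_add, ShortPresSL2.matU_add, ShortPresSL2.matU_add, map_mul, map_mul, ← hsq, ← hsq]
  group

theorem conj_long_pow (χ : Matrix.SpecialLinearGroup (Fin 2) k →* G) {h : G} {c : k}
    (hc : ∀ t, h * χ (matU t) * h⁻¹ = χ (matU (c * t))) (n : ℕ) (t : k) :
    h ^ n * χ (matU t) * (h ^ n)⁻¹ = χ (matU (c ^ n * t)) := by
  induction n with
  | zero => simp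
  | succ n ih =>
    calc h ^ (n + 1) * χ (matU t) * (h ^ (n + 1))⁻¹ = h * (h ^ n * χ (matU t) * (h ^ n)⁻¹) * h⁻¹ := by
          rw [pow_succ']; group
      _ = _ := by rw [ih, hc, pow_succ', mul_assoc]

/-- An element commuting with one long element and generated by the norm one torus commutes with all. -/
theorem comm_of_span {p : ℕ} [Fact p.Prime] (χ : Matrix.SpecialLinearGroup (Fin 2) k →* G) {u h : G}
    (ν : kˣ) (hν : ∀ x : kˣ, ∃ i : ℕ, ν ^ i = x) (hc : ∀ t, h * χ (matU t) * h⁻¹ = χ (matU ((ν : k) * t)))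
    {N M : ℕ} (hN : 1 ≤ N) (hh : h ^ N = 1) (hM : ν ^ M = 1) (h1 : Commute u (χ (matU 1)))
    {P : (ZMod p)[X]} {s : k} (hspan : h * u * h⁻¹ = polyWord u (h ^ M) P * χ (matU s)) (t : k) :
    Commute u (χ (matU t)) := by
  set C := Subgroup.centralizer ({χ (matU (1 : k))} : Set G) with hC
  have hmem : ∀ x : G, x ∈ C ↔ Commute (χ (matU (1 : k))) x := fun x => by
    rw [hC, Subgroup.mem_centralizer_iff]
    simp [Commute, SemiconjBy]
  have hZ : ∀ t : k, χ (matU t) ∈ C := fun t => by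
    rw [hmem, Commute, SemiconjBy, ← map_mul, ← map_mul, ← ShortPresSL2.matU_add,
      ← ShortPresSL2.matU_add, add_comm]
  have hhM : h ^ M ∈ C := by
    rw [hmem]
    have e := conj_long_pow χ hc M 1
    rw [← Units.val_pow_eq_pow_val, hM, Units.val_one, one_mul, mul_inv_eq_iff_eq_mul] at e
    exact e.symm
  have hall : ∀ n : ℕ, h ^ n * u * (h ^ n)⁻¹ ∈ C := by
    intro n
    induction n with
    | zero => rw [pow_zero, one_mul, inv_one, mul_one, hmem]; exact h1.symm
    | succ n ih =>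
      have e : h ^ (n + 1) * u * (h ^ (n + 1))⁻¹ =
          polyWord (h ^ n * u * (h ^ n)⁻¹) (h ^ M) P * χ (matU ((ν : k) ^ n * s)) := by
        calc h ^ (n + 1) * u * (h ^ (n + 1))⁻¹ = h ^ n * (h * u * h⁻¹) * (h ^ n)⁻¹ := by
              rw [pow_succ]; group
          _ = (h ^ n * polyWord u (h ^ M) P * (h ^ n)⁻¹) * (h ^ n * χ (matU s) * (h ^ n)⁻¹) := by
              rw [hspan]; group
          _ = _ := by
              rw [conj_long_pow χ hc]
              congr 1
              have := map_polyWord (MulAut.conj (h ^ n)).toMonoidHom u (h ^ M) P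
              simp only [MulEquiv.coe_toMonoidHom, MulAut.conj_apply] at this
              rw [this, show h ^ n * h ^ M * (h ^ n)⁻¹ = h ^ M by
                rw [← pow_add, add_comm, pow_add, mul_inv_cancel_right]]
      rw [e]
      exact mul_mem (polyWord_mem ih hhM P) (hZ _)
  rcases eq_or_ne t 0 with rfl | ht
  · rw [ShortPresSL2.matU_zero, map_one]; exact Commute.one_right u
  obtain ⟨m, hm⟩ := hν (Units.mk0 t ht)
  have hn : m + (N * m - m) = N * m := Nat.add_sub_cancel' (Nat.le_mul_of_pos_left m hN)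
  have hu : h ^ m * (h ^ (N * m - m) * u * (h ^ (N * m - m))⁻¹) * (h ^ m)⁻¹ = u := by
    rw [show h ^ m * (h ^ (N * m - m) * u * (h ^ (N * m - m))⁻¹) * (h ^ m)⁻¹ =
      h ^ m * h ^ (N * m - m) * u * (h ^ m * h ^ (N * m - m))⁻¹ by group, ← pow_add, hn, pow_mul, hh, one_pow]
    group
  have h2 := ((hmem _).1 (hall (N * m - m))).map (MulAut.conj (h ^ m)).toMonoidHom
  simp only [MulEquiv.coe_toMonoidHom, MulAut.conj_apply] at h2
  rw [hu, conj_long_pow χ hc, mul_one, ← Units.val_pow_eq_pow_val, hm, Units.val_mk0] at h2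
  exact h2.symm

/-- Elements normalising the long root subgroup. -/
theorem mem_normalizer_long (χ : Matrix.SpecialLinearGroup (Fin 2) k →* G) {x : G}
    (hx : ∀ t, x * χ (matU t) * x⁻¹ ∈ longG χ) : x ∈ Subgroup.normalizer (longG χ : Set G) := by
  haveI : Finite (longG χ) := Set.Finite.to_subtype (Set.finite_range _)
  refine Subgroup.mem_normalizer_fintype fun y hy => ?_
  obtain ⟨t, rfl⟩ := hy
  exact hx t.toAdd

end abstract

/-! ### The concrete group -/

section concrete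

variable (hF : Fintype.card F = q ^ 2) {δ : F} (hδ : δ ^ q = -δ) (hδ0 : δ ≠ 0)
  {p : ℕ} [hp : Fact p.Prime] [Algebra (ZMod p) F]

/-- The corner entry of an element of the Borel subgroup. -/
def corM : Bor hF →* F where
  toFun g := g.1.1.1 0 0
  map_one' := by simp
  map_mul' g g' := by
    obtain ⟨h10, -, -⟩ := upper_of_entry hF g'.2
    show (g * g').1.1.1 0 0 = _
    rw [show (g * g').1.1.1 = g.1.1.1 * g'.1.1.1 from rfl, Matrix.mul_apply, Fin.sum_univ_three, h10,
      show g'.1.1.1 2 0 = 0 from g'.2]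
    ring

/-- The corner entry, as a unit. -/
def cor : Bor hF →* Fˣ := (corM hF).toHomUnits

theorem cor_apply (g : Bor hF) : (cor hF g : F) = g.1.1.1 0 0 := rfl

theorem cor_U3 {a b : F} (h : b + b ^ q + a * a ^ q = 0) : cor hF ⟨U3 hF a b h, U3_mem hF h⟩ = 1 :=
  Units.ext (by rw [cor_apply, U3_coe]; simp)

theorem cor_T3 (l : Fˣ) : cor hF ⟨T3 hF l, T3_mem hF l⟩ = l :=
  Units.ext (by rw [cor_apply, T3_coe]; simp)

theorem exists_long {g : Bor hF} (h1 : cor hF g = 1) (h2 : ∀ z, (SU3Data.aff g).1 z = z) :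
    ∃ t : Kf hF, g.1 = iota hF hδ hδ0 (matU t) := by
  obtain ⟨a, b, e, l, hg⟩ := exists_bor hF g.2
  have hl : l = 1 := by
    rw [← h1]
    refine Units.ext ?_
    rw [cor_apply]
    simp [hg, H3_coe_mul, U3_coe, T3_coe, Matrix.mul_apply, Fin.sum_univ_three]
  subst hl
  rw [map_one, mul_one] at hg
  have ha : a = 0 := by
    have := h2 0
    rw [show g = ⟨U3 hF a b e, U3_mem hF e⟩ from Subtype.ext hg, SU3Data.aff_U3, zero_add] at this
    exact this
  subst ha
  have hs : b / δ ∈ Kf hF := by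
    rw [mem_Kf, div_pow, show b ^ q = -b by rw [zero_mul, add_zero] at e; linear_combination e, hδ,
      neg_div_neg_eq]
  refine ⟨⟨_, hs⟩, ?_⟩
  rw [hg, iota_matU]
  refine U3_congr hF _ _ rfl ?_
  show b = δ * (b / δ)
  field_simp

/-- A word in a unipotent element and the torus has the expected translation part. -/
theorem aff_polyWord {b₀ : F} (e₀ : b₀ + b₀ ^ q + (1 : F) * (1 : F) ^ q = 0) (ω : Fˣ) (k : ℕ) (P : (ZMod p)[X])
    (z : F) :
    let x := polyWord (⟨U3 hF 1 b₀ e₀, U3_mem hF e₀⟩ : Bor hF) (⟨T3 hF ω, T3_mem hF ω⟩ ^ k) P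
    cor hF x = 1 ∧ (SU3Data.aff x).1 z = z + aeval (mu q ((ω : F) ^ k)) P := by
  intro x
  constructor
  · rw [map_polyWord, cor_U3, polyWord_one]
  rw [map_polyWord, polyWord_eq (mu q ((ω : F) ^ k)) (SU3Data.trans F) ?_ (fun r => ?_) P]
  · rfl
  · exact Units.ext (funext fun z => by rw [SU3Data.aff_U3]; rfl)
  · have hpow : ∀ (j : ℕ) (z : F),
        (SU3Data.aff (⟨T3 hF ω, T3_mem hF ω⟩ : Bor hF) ^ j).1 z = mu q (ω : F) ^ j * z := by
      intro j
      induction j with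
      | zero => intro z; rw [pow_zero, pow_zero, one_mul]; rfl
      | succ j ih =>
        intro z
        rw [pow_succ', Units.val_mul]
        exact (congrArg (SU3Data.aff (⟨T3 hF ω, T3_mem hF ω⟩ : Bor hF)).1 (ih z)).trans
          (by rw [SU3Data.aff_T3, pow_succ']; ring)
    rw [eq_mul_inv_iff_mul_eq, map_pow, map_pow]
    refine Units.ext (funext fun z => ?_)
    show (SU3Data.trans F _).1 ((SU3Data.aff (⟨T3 hF ω, T3_mem hF ω⟩ : Bor hF) ^ k).1 z) =
      (SU3Data.aff (⟨T3 hF ω, T3_mem hF ω⟩ : Bor hF) ^ k).1 ((SU3Data.trans F _).1 z)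
    rw [hpow, hpow, SU3Data.trans_apply, SU3Data.trans_apply]
    ring

include hδ hδ0 in
/-- One unipotent element and the torus generate the Borel subgroup. -/
theorem bor_le {H : Subgroup (H3 F q)} {b₀ : F} (e₀ : b₀ + b₀ ^ q + (1 : F) * (1 : F) ^ q = 0)
    {ω : Fˣ} (hω : ∀ x : Fˣ, x ∈ Subgroup.zpowers ω) {k : ℕ}
    (hsurj : Function.Surjective (aeval (mu q ((ω : F) ^ k)) : (ZMod p)[X] → F))
    (hu : U3 hF 1 b₀ e₀ ∈ H) (hh : T3 hF ω ∈ H) : Bor hF ≤ H := by
  have hT : ∀ l, T3 hF l ∈ H := fun l => by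
    obtain ⟨j, hj⟩ := mem_powers_iff_mem_zpowers.2 (hω l)
    rw [← show ω ^ j = l from hj, map_pow]
    exact pow_mem hh j
  have hA : ∀ a : F, ∃ b e, U3 hF a b e ∈ H := by
    intro a
    obtain ⟨P, rfl⟩ := hsurj a
    set x := polyWord (⟨U3 hF 1 b₀ e₀, U3_mem hF e₀⟩ : Bor hF) (⟨T3 hF ω, T3_mem hF ω⟩ ^ k) P with hx
    have hxH : x.1 ∈ H :=
      (polyWord_mem (K := H.comap (Bor hF).subtype) hu (pow_mem (show _ ∈ H.comap (Bor hF).subtype from hh) k) P)
    obtain ⟨a', b', e', l, hg⟩ := exists_bor hF x.2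
    obtain ⟨h1, h2⟩ := aff_polyWord hF e₀ ω k P (0 : F)
    have ha : a' = aeval (mu q ((ω : F) ^ k)) P := by
      rw [zero_add] at h2
      rw [← h2, ← hx, SU3Data.aff_apply, hg]
      simp [H3_coe_mul, U3_coe, T3_coe, Matrix.mul_apply, Fin.sum_univ_three]
    subst ha
    refine ⟨b', e', ?_⟩
    rw [show U3 hF _ b' e' = x.1 * (T3 hF l)⁻¹ by rw [hg, mul_inv_cancel_right]]
    exact mul_mem hxH (inv_mem (hT l))
  obtain ⟨x₀, hx₀⟩ := trace_surj hF (y := (1 : F)) (one_pow q)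
  have hlong : ∀ b, ∀ e : b + b ^ q + (0 : F) * (0 : F) ^ q = 0, U3 hF 0 b e ∈ H := by
    intro b e
    have hb : b ^ q = -b := by rw [zero_mul, add_zero] at e; linear_combination e
    obtain ⟨c, ec, hc⟩ := hA (b * x₀)
    obtain ⟨d, ed, hd⟩ := hA 1
    have key : U3 hF (b * x₀) c ec * U3 hF 1 d ed = U3 hF 1 d ed * U3 hF (b * x₀) c ec *
        U3 hF 0 b e := by
      rw [U3_mul, U3_mul, U3_mul]
      refine U3_congr hF _ _ (by ring) ?_
      rw [one_pow, mul_pow, hb]
      linear_combination b * hx₀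
    rw [← inv_mul_eq_iff_eq_mul.2 key]
    exact mul_mem (inv_mem (mul_mem hd hc)) (mul_mem hc hd)
  intro g hg
  obtain ⟨a, b, e, l, rfl⟩ := exists_bor hF hg
  refine mul_mem ?_ (hT l)
  obtain ⟨c, ec, hc⟩ := hA a
  have hd : (b - c) + (b - c) ^ q + (0 : F) * (0 : F) ^ q = 0 := by
    rw [sub_pow_q hF, zero_mul, add_zero]; linear_combination e - ec
  rw [show U3 hF a b e = U3 hF a c ec * U3 hF 0 (b - c) hd by
    rw [U3_mul]; exact U3_congr hF _ _ (add_zero a).symm (by ring)]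
  exact mul_mem hc (hlong _ hd)

end concrete

/-! ### The presentation -/

local notation "gU" => (FreeGroup.of 0 : FreeGroup (Fin 3))
local notation "gH" => (FreeGroup.of 1 : FreeGroup (Fin 3))
local notation "gW" => (FreeGroup.of 2 : FreeGroup (Fin 3))

/-- The core: any list of further relators deriving the two commutation facts completes the
presentation. -/
theorem hasPres_core (hF : Fintype.card F = q ^ 2) {δ : F} (hδ : δ ^ q = -δ) (hδ0 : δ ≠ 0)
    {p : ℕ} [hp : Fact p.Prime] [Algebra (ZMod p) F]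
    {ω : Fˣ} (hω : ∀ x : Fˣ, x ∈ Subgroup.zpowers ω) {ν : (Kf hF)ˣ} (hν : kUnit hF ν = ω ^ (q + 1))
    {b₀ : F} (e₀ : b₀ + b₀ ^ q + (1 : F) * (1 : F) ^ q = 0) {k : ℕ}
    (hsurj : Function.Surjective (aeval (mu q ((ω : F) ^ k)) : (ZMod p)[X] → F))
    {rS L : ℕ} (hS : HasPres 3 rS (Matrix.SpecialLinearGroup (Fin 2) (Kf hF)))
    (extra : (Matrix.SpecialLinearGroup (Fin 2) (Kf hF) → FreeGroup (Fin 3)) → List (FreeGroup (Fin 3)))
    (hlen : ∀ wd, (extra wd).length ≤ L)
    (hold : ∀ wd, (∀ s, FreeGroup.lift ![U3 hF 1 b₀ e₀, T3 hF ω, W3 hF hδ hδ0] (wd s) = iota hF hδ hδ0 s) →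
      ∀ r ∈ extra wd, FreeGroup.lift ![U3 hF 1 b₀ e₀, T3 hF ω, W3 hF hδ hδ0] r = 1)
    (hder : ∀ {G : Type} [Group G] (m : FreeGroup (Fin 3) →* G)
      (χ : Matrix.SpecialLinearGroup (Fin 2) (Kf hF) →* G) (wd : _ → FreeGroup (Fin 3)),
      (∀ s, m (wd s) = χ s) → (∀ r ∈ extra wd, m r = 1) →
      (∀ t, m gH * χ (matU t) * (m gH)⁻¹ = χ (matU ((ν : Kf hF) * t))) →
      m gH ^ ((q + 1) * (q - 1)) = 1 →
      polyWord (m gU) (m gH ^ k) (minpoly (ZMod p) (mu q ((ω : F) ^ k))) ∈ longG χ →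
      (∀ t, Commute (m gU) (χ (matU t))) ∧
        ∀ n : ℕ, (m gH ^ k) ^ n * m gU * ((m gH ^ k) ^ n)⁻¹ * m gU *
          (m gU * ((m gH ^ k) ^ n * m gU * ((m gH ^ k) ^ n)⁻¹))⁻¹ ∈ longG χ) :
    HasPres 3 (rS + 10 + L) (H3 F q) := by
  classical
  set g : Fin 3 → H3 F q := ![U3 hF 1 b₀ e₀, T3 hF ω, W3 hF hδ hδ0] with hg
  have g0 : g 0 = U3 hF 1 b₀ e₀ := rfl
  have g1 : g 1 = T3 hF ω := rfl
  have g2 : g 2 = W3 hF hδ hδ0 := rfl
  have hBor : ∀ y ∈ Bor hF, ∃ v, v ∈ Subgroup.closure ({gU, gH} : Set (FreeGroup (Fin 3))) ∧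
      FreeGroup.lift g v = y := by
    intro y hy
    have := bor_le hF hδ hδ0 e₀ hω hsurj
      (H := (Subgroup.closure ({gU, gH} : Set (FreeGroup (Fin 3)))).map (FreeGroup.lift g))
      ⟨gU, Subgroup.subset_closure (Or.inl rfl), by simp [g0]⟩
      ⟨gH, Subgroup.subset_closure (Or.inr rfl), by simp [g1]⟩ hy
    obtain ⟨v, hv, hv'⟩ := this
    exact ⟨v, hv, hv'⟩
  have hsur : Function.Surjective (FreeGroup.lift g) := by
    intro y
    rcases exists_cell hF hδ hδ0 y with hy | ⟨y₁, h₁, y₂, h₂, rfl⟩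
    · obtain ⟨v, -, hv⟩ := hBor y hy; exact ⟨v, hv⟩
    · obtain ⟨v₁, -, hv₁⟩ := hBor y₁ h₁
      obtain ⟨v₂, -, hv₂⟩ := hBor y₂ h₂
      exact ⟨v₁ * gW * v₂, by rw [map_mul, map_mul, hv₁, hv₂, FreeGroup.lift_apply_of, g2]⟩
  obtain ⟨relS, hrS, ⟨eS⟩⟩ := hS
  choose wi hwi using fun i : Fin 3 => hsur (iota hF hδ hδ0 (eS (PresentedGroup.of i)))
  set φ := FreeGroup.lift wi with hφ
  choose pre hpre using fun s : Matrix.SpecialLinearGroup (Fin 2) (Kf hF) =>
    PresentedGroup.mk_surjective (↑relS : Set (FreeGroup (Fin 3))) (eS.symm s)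
  set wd : Matrix.SpecialLinearGroup (Fin 2) (Kf hF) → FreeGroup (Fin 3) := fun s => φ (pre s) with hwd
  have hcomp : (FreeGroup.lift g).comp φ =
      (iota hF hδ hδ0).comp (eS.toMonoidHom.comp (PresentedGroup.mk _)) :=
    FreeGroup.ext_hom _ _ fun i => by
      show FreeGroup.lift g (φ (FreeGroup.of i)) = _
      rw [hφ, FreeGroup.lift_apply_of, hwi]
      rfl
  have hcompv : ∀ v, FreeGroup.lift g (φ v) =
      iota hF hδ hδ0 (eS (PresentedGroup.mk (↑relS : Set (FreeGroup (Fin 3))) v)) :=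
    fun v => DFunLike.congr_fun hcomp v
  have hwdv : ∀ s, FreeGroup.lift g (wd s) = iota hF hδ hδ0 s := fun s => by
    rw [hwd, hcompv, hpre, MulEquiv.apply_symm_apply]
  -- the data of the remaining relations
  obtain ⟨Pc, hPc⟩ := hsurj (mu q (ω : F))
  set uB : Bor hF := ⟨U3 hF 1 b₀ e₀, U3_mem hF e₀⟩ with huB
  set hB : Bor hF := ⟨T3 hF ω, T3_mem hF ω⟩ with hhB
  have hpw : ∀ P : (ZMod p)[X], FreeGroup.lift g (polyWord gU (gH ^ k) P) = (polyWord uB (hB ^ k) P).1 := by
    intro P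
    rw [map_polyWord, map_pow, FreeGroup.lift_apply_of, FreeGroup.lift_apply_of, g0, g1,
      show (polyWord uB (hB ^ k) P).1 = (Bor hF).subtype (polyWord uB (hB ^ k) P) from rfl, map_polyWord]
    rfl
  obtain ⟨sp, hsp⟩ := exists_long hF hδ hδ0 (g := uB ^ p) (by rw [map_pow, cor_U3, one_pow]) (fun z => by
    have hpow : ∀ (j : ℕ) (z : F), (SU3Data.aff uB ^ j).1 z = z + (j : F) := by
      intro j
      induction j with
      | zero => intro z; rw [pow_zero, Nat.cast_zero, add_zero]; rfl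
      | succ j ih =>
        intro z
        rw [pow_succ', Units.val_mul]
        exact (congrArg (SU3Data.aff uB).1 (ih z)).trans (by rw [SU3Data.aff_U3, Nat.cast_succ]; ring)
    haveI : CharP F p := charP_of_injective_algebraMap (algebraMap (ZMod p) F).injective p
    rw [map_pow, hpow, CharP.cast_eq_zero, add_zero])
  obtain ⟨sm, hsm⟩ := exists_long hF hδ hδ0
    (g := polyWord uB (hB ^ k) (minpoly (ZMod p) (mu q ((ω : F) ^ k))))
    (aff_polyWord hF e₀ ω k _ 0).1 (fun z => by rw [(aff_polyWord hF e₀ ω k _ z).2, minpoly.aeval, add_zero])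
  obtain ⟨sc, hsc⟩ := exists_long hF hδ hδ0 (g := hB * uB * hB⁻¹ * (polyWord uB (hB ^ k) Pc)⁻¹)
    (by rw [map_mul, map_mul, map_mul, map_inv, map_inv, (aff_polyWord hF e₀ ω k Pc 0).1, cor_U3,
      mul_one, mul_inv_cancel, inv_one, one_mul])
    (fun z => by
      have e : SU3Data.aff (hB * uB * hB⁻¹) = SU3Data.aff (polyWord uB (hB ^ k) Pc) := by
        rw [map_mul, map_mul, map_inv, mul_inv_eq_iff_eq_mul]
        refine Units.ext (funext fun y => ?_)
        show (SU3Data.aff hB).1 ((SU3Data.aff uB).1 y) =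
          (SU3Data.aff (polyWord uB (hB ^ k) Pc)).1 ((SU3Data.aff hB).1 y)
        rw [(aff_polyWord hF e₀ ω k Pc _).2, hPc, SU3Data.aff_U3, SU3Data.aff_T3, SU3Data.aff_T3]
        ring
      rw [map_mul, e, map_inv, mul_inv_cancel]
      rfl)
  set ξ := (ω : F) ^ (q - 1) with hξ
  have h1q := one_lt_q hF
  have hξ1 : 1 - ξ ≠ 0 := sub_ne_zero.2 fun h => by
    have := Nat.le_of_dvd (by omega) ((gen_pow_eq_one hω hF (q - 1)).1 h.symm)
    nlinarith [show 1 ≤ q - 1 by omega, show 3 ≤ q + 1 by omega]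
  set r := ξ / (1 - ξ) with hr
  have hξq : ξ * ξ ^ q = 1 := by
    rw [hξ, ← pow_succ', ← pow_mul, gen_pow_eq_one hω hF, mul_comm]
  have hrt : r + r ^ q = -1 := by
    have hξ0 : ξ ≠ 0 := pow_ne_zero _ ω.ne_zero
    rw [hr, div_pow, sub_pow_q hF, one_pow, eq_inv_of_mul_eq_one_right hξq]
    have : ξ - 1 ≠ 0 := by rw [← neg_sub]; exact neg_ne_zero.2 hξ1
    field_simp
    ring
  have hre : ∀ i : ℕ, r * ((ω : F) ^ i * ((ω : F) ^ i) ^ q) + (r * ((ω : F) ^ i * ((ω : F) ^ i) ^ q)) ^ q +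
      (ω : F) ^ i * ((ω : F) ^ i) ^ q = 0 := fun i => by
    rw [mul_pow, mul_pow, pow_q_q hF]
    linear_combination ((ω : F) ^ i * ((ω : F) ^ i) ^ q) * hrt
  have hr0 : r ≠ 0 := div_ne_zero (pow_ne_zero _ ω.ne_zero) hξ1
  have hne : ∀ i : ℕ, r * ((ω : F) ^ i * ((ω : F) ^ i) ^ q) ≠ 0 := fun i =>
    mul_ne_zero hr0 (mul_ne_zero (pow_ne_zero _ ω.ne_zero) (pow_ne_zero _ (pow_ne_zero _ ω.ne_zero)))
  choose X hXm hX using fun i : ℕ => hBor _ (U3_mem hF (hre i))
  choose Y hYm hY using fun i : ℕ => hBor _ (mul_mem (U3_mem hF (fe_cond_left hF hδ (hre i) (hne i)))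
    (T3_mem hF (Units.mk0 _ (div_ne_zero (neg_ne_zero.2 hδ0) (pow_ne_zero q (hne i))))))
  choose Z hZm hZ using fun i : ℕ => hBor _ (U3_mem hF (fe_cond_right hF hδ (hre i) (hne i)))
  -- the relations
  set R : Finset (FreeGroup (Fin 3)) := relS.image φ ∪
    ([wd matT * gW⁻¹, wd (matD ν) * (gH ^ (q + 1))⁻¹, gW * gH * gW⁻¹ * gH ^ q,
      gH * wd (matU 1) * gH⁻¹ * (wd (matU (ν : Kf hF)))⁻¹,
      gU ^ p * (wd (matU sp))⁻¹,
      polyWord gU (gH ^ k) (minpoly (ZMod p) (mu q ((ω : F) ^ k))) * (wd (matU sm))⁻¹,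
      gH * gU * gH⁻¹ * (polyWord gU (gH ^ k) Pc)⁻¹ * (wd (matU sc))⁻¹] ++
    ((List.range 3).map fun i => gW * X i * gW⁻¹ * (Y i * gW * Z i)⁻¹) ++ extra wd).toFinset with hR
  refine ⟨R, ?_, ?_⟩
  · have := hlen wd
    refine (Finset.card_union_le _ _).trans ?_
    refine (Nat.add_le_add (Finset.card_image_le.trans hrS) (List.toFinset_card_le _)).trans ?_
    simp only [List.length_append, List.length_cons, List.length_nil, List.length_map, List.length_range]
    omega
  have hconc : ∀ x ∈ R, FreeGroup.lift g x = 1 := by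
    intro x hx
    rw [hR, Finset.mem_union, Finset.mem_image, List.mem_toFinset] at hx
    rcases hx with ⟨v, hv, rfl⟩ | hx
    · rw [hcompv, PresentedGroup.one_of_mem hv, map_one, map_one]
    simp only [List.mem_append, List.mem_cons, List.not_mem_nil, or_false, List.mem_map, List.mem_range] at hx
    rcases hx with ((rfl | rfl | rfl | rfl | rfl | rfl | rfl) | ⟨i, -, rfl⟩) | hx
    · rw [map_mul, map_inv, hwdv, iota_matT, FreeGroup.lift_apply_of, g2, mul_inv_cancel]
    · rw [map_mul, map_inv, map_pow, hwdv, iota_matD, FreeGroup.lift_apply_of, g1, hν, map_pow, mul_inv_cancel]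
    · rw [map_mul, map_mul, map_mul, map_inv, map_pow, FreeGroup.lift_apply_of, FreeGroup.lift_apply_of, g1, g2,
        W3_T3, ← map_pow, ← map_mul, inv_mul_cancel, map_one]
    · rw [map_mul, map_mul, map_mul, map_inv, map_inv, hwdv, hwdv, FreeGroup.lift_apply_of, g1,
        iota_matU, iota_matU, T3_conj, mul_inv_eq_one]
      refine U3_congr hF _ _ (mul_zero _) ?_
      have : ((ν : Kf hF) : F) = (ω : F) ^ (q + 1) := by
        rw [← kUnit_coe, hν, Units.val_pow_eq_pow_val]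
      rw [this]; push_cast; ring
    · rw [map_mul, map_inv, map_pow, hwdv, FreeGroup.lift_apply_of, g0, mul_inv_eq_one, ← hsp]
      rfl
    · rw [map_mul, map_inv, hwdv, hpw, ← hsm, mul_inv_cancel]
    · rw [map_mul, map_inv, hwdv, map_mul, map_mul, map_mul, map_inv, map_inv, hpw,
        FreeGroup.lift_apply_of, FreeGroup.lift_apply_of, g0, g1, mul_inv_eq_one, ← hsc]
      rfl
    · rw [map_mul, map_mul, map_mul, map_inv, map_inv, map_mul, map_mul, FreeGroup.lift_apply_of, g2, hX, hY, hZ,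
        mul_inv_eq_one]
      exact fe hF hδ hδ0 (hre i) (hne i)
    · exact hold wd hwdv x hx
  let G := PresentedGroup (↑R : Set (FreeGroup (Fin 3)))
  let m : FreeGroup (Fin 3) →* G := PresentedGroup.mk _
  have hm : ∀ x ∈ R, m x = 1 := fun x hx => PresentedGroup.one_of_mem (Finset.mem_coe.2 hx)
  have hm' : ∀ a b, a * b⁻¹ ∈ R → m a = m b := fun a b hab =>
    mul_inv_eq_one.1 (by rw [← map_inv, ← map_mul]; exact hm _ hab)
  have hmem : ∀ x, x ∈ relS.image φ → x ∈ R := fun x hx => Finset.mem_union_left _ hx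
  have hS' : ∀ v ∈ (↑relS : Set (FreeGroup (Fin 3))), FreeGroup.lift (fun i => m (wi i)) v = 1 := by
    intro v hv
    have e : FreeGroup.lift (fun i => m (wi i)) = m.comp φ :=
      FreeGroup.ext_hom _ _ fun i => by simp [hφ]
    rw [e]
    exact hm _ (hmem _ (Finset.mem_image_of_mem _ (Finset.mem_coe.1 hv)))
  let χ : Matrix.SpecialLinearGroup (Fin 2) (Kf hF) →* G :=
    (PresentedGroup.toGroup hS').comp eS.symm.toMonoidHom
  have hχ : ∀ s, m (wd s) = χ s := fun s => by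
    show m (φ (pre s)) = PresentedGroup.toGroup hS' (eS.symm s)
    rw [← hpre]
    have e : (PresentedGroup.toGroup hS').comp (PresentedGroup.mk _) = m.comp φ :=
      FreeGroup.ext_hom _ _ fun i => by
        show PresentedGroup.toGroup hS' (PresentedGroup.of i) = m (φ (FreeGroup.of i))
        rw [PresentedGroup.toGroup.of, hφ, FreeGroup.lift_apply_of]
    exact (DFunLike.congr_fun e (pre s)).symm
  have hin : ∀ x, x ∈ [wd matT * gW⁻¹, wd (matD ν) * (gH ^ (q + 1))⁻¹, gW * gH * gW⁻¹ * gH ^ q,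
      gH * wd (matU 1) * gH⁻¹ * (wd (matU (ν : Kf hF)))⁻¹,
      gU ^ p * (wd (matU sp))⁻¹,
      polyWord gU (gH ^ k) (minpoly (ZMod p) (mu q ((ω : F) ^ k))) * (wd (matU sm))⁻¹,
      gH * gU * gH⁻¹ * (polyWord gU (gH ^ k) Pc)⁻¹ * (wd (matU sc))⁻¹] → x ∈ R := fun x hx => by
    refine Finset.mem_union_right _ (List.mem_toFinset.2 ?_)
    exact List.mem_append_left _ (List.mem_append_left _ hx)
  have eW : χ matT = m gW := by rw [← hχ]; exact hm' _ _ (hin _ (by simp))
  have eD : χ (matD ν) = m gH ^ (q + 1) := by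
    rw [← hχ, ← map_pow]; exact hm' _ _ (hin _ (by simp))
  have ewh : χ matT * m gH * (χ matT)⁻¹ = (m gH ^ q)⁻¹ := by
    rw [eW, ← map_pow, ← map_inv, ← map_inv, ← map_mul, ← map_mul]
    exact hm' _ _ (hin _ (by simp))
  have ehz : m gH * χ (matU 1) * (m gH)⁻¹ = χ (matU (ν : Kf hF)) := by
    rw [← hχ, ← hχ, ← map_inv, ← map_mul, ← map_mul]
    exact hm' _ _ (hin _ (by simp))
  have hνgen : ∀ x : (Kf hF)ˣ, ∃ i : ℕ, ν ^ i = x := by
    intro x
    obtain ⟨j, hj⟩ := mem_powers_iff_mem_zpowers.2 (hω (kUnit hF x))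
    have hj' : ((ω : F) ^ j) ^ q = (ω : F) ^ j := by
      rw [← Units.val_pow_eq_pow_val, show ω ^ j = _ from hj]
      exact Kf_fixed hF _
    obtain ⟨i, rfl⟩ := (gen_fixed hω hF j).1 hj'
    refine ⟨i, ?_⟩
    have e : kUnit hF (ν ^ i) = kUnit hF x := by rw [map_pow, hν, ← pow_mul]; exact hj
    exact Units.ext (Subtype.ext (congrArg Units.val e))
  have hconj := conj_long χ ν hνgen eD ehz
  have hν1 : ν ^ (q - 1) = 1 := by
    refine Units.ext (Subtype.ext (congrArg Units.val (?_ : kUnit hF (ν ^ (q - 1)) = 1)))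
    rw [map_pow, hν, ← pow_mul, ← orderOf_gen hω hF, pow_orderOf_eq_one]
  have hord : m gH ^ ((q + 1) * (q - 1)) = 1 := by
    rw [pow_mul, ← eD, ← map_pow, ShortPresSL2.matD_pow, hν1, ShortPresSL2.matD_one, map_one]
  have emin : polyWord (m gU) (m gH ^ k) (minpoly (ZMod p) (mu q ((ω : F) ^ k))) = χ (matU sm) := by
    rw [← map_pow, ← map_polyWord, ← hχ]
    exact hm' _ _ (hin _ (by simp))
  have hlmem : ∀ t, χ (matU t) ∈ longG χ := fun t => ⟨.ofAdd t, rfl⟩
  obtain ⟨huz, hcomm⟩ := hder m χ wd hχ (fun x hx => hm _ (Finset.mem_union_right _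
    (List.mem_toFinset.2 (List.mem_append_right _ hx)))) hconj hord (emin ▸ hlmem sm)
  have hbor : ∀ v ∈ Subgroup.closure ({gU, gH} : Set (FreeGroup (Fin 3))), m v ∈ borG χ (m gU) (m gH) := by
    intro v hv
    have : Subgroup.closure ({gU, gH} : Set (FreeGroup (Fin 3))) ≤ (borG χ (m gU) (m gH)).comap m := by
      rw [Subgroup.closure_le]
      rintro y (rfl | rfl)
      · exact Subgroup.subset_closure (Or.inl (Or.inl rfl))
      · exact Subgroup.subset_closure (Or.inl (Or.inr rfl))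
    exact this hv
  have hconc' : ∀ x ∈ (↑R : Set (FreeGroup (Fin 3))), FreeGroup.lift g x = 1 := fun x hx =>
    hconc x (Finset.mem_coe.1 hx)
  let π₀ : G →* H3 F q := PresentedGroup.toGroup hconc'
  have hπ0 : ∀ v, π₀ (m v) = FreeGroup.lift g v := fun v => by
    have e : π₀.comp m = FreeGroup.lift g :=
      FreeGroup.ext_hom _ _ fun i => by
        rw [FreeGroup.lift_apply_of]
        exact PresentedGroup.toGroup.of hconc'
    exact DFunLike.congr_fun e v
  let D : SU3Data hF hδ hδ0 p G :=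
    { π := π₀
      χ := χ
      u := m gU
      h := m gH
      a₀ := 1
      b₀ := b₀
      hab := e₀
      ha₀ := one_ne_zero
      ω := ω
      hω := hω
      ν := ν
      hν := hν
      k := k
      Pc := Pc
      hPc := hPc
      hsurj := hsurj
      r := r
      hr := hrt
      hξ := by
        have : ξ / (1 - ξ) + 1 = 1 / (1 - ξ) := by field_simp; ring
        rw [hr, this, div_div_div_cancel_right₀ hξ1, div_one]
      πχ := fun s => by rw [← hχ]; exact (hπ0 (wd s)).trans (hwdv s)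
      πu := PresentedGroup.toGroup.of _
      πh := PresentedGroup.toGroup.of _
      rel_D := eD
      rel_wh := ewh
      rel_hz := ehz
      rel_uz := huz
      rel_up := by
        rw [← map_pow, show m (gU ^ p) = χ (matU sp) by rw [← hχ]; exact hm' _ _ (hin _ (by simp))]
        exact hlmem sp
      rel_comm := hcomm
      rel_min := emin ▸ hlmem sm
      rel_c := by
        rw [← map_pow, ← map_polyWord, ← map_inv, ← map_inv, ← map_mul, ← map_mul, ← map_mul,
          show m (gH * gU * gH⁻¹ * (polyWord gU (gH ^ k) Pc)⁻¹) = χ (matU sc) by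
            rw [← hχ]; exact hm' _ _ (hin _ (by simp))]
        exact hlmem sc
      rel_orb := fun i hi => by
        refine ⟨m (X i), hbor _ (hXm i), ⟨hre i, ?_⟩, m (Y i), hbor _ (hYm i), m (Z i), hbor _ (hZm i), ?_⟩
        · exact (hπ0 (X i)).trans (hX i)
        · rw [eW, ← map_inv, ← map_mul, ← map_mul, ← map_mul, ← map_mul]
          refine hm' _ _ (Finset.mem_union_right _ (List.mem_toFinset.2 ?_))
          exact List.mem_append_left _ (List.mem_append_right _ (List.mem_map.2 ⟨i, List.mem_range.2 hi, rfl⟩))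
      hgen := by
        rw [eq_top_iff, ← PresentedGroup.closure_range_of (↑R : Set (FreeGroup (Fin 3))), eW]
        refine Subgroup.closure_mono ?_
        rintro _ ⟨i, rfl⟩
        fin_cases i
        · exact Or.inl rfl
        · exact Or.inr (Or.inl rfl)
        · exact Or.inr (Or.inr rfl) }
  exact ⟨MulEquiv.ofBijective D.π D.bijective⟩

end Cfsg.Agent.Lib.ShortPresSU3
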